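import Groth.Agent.H9SInter.Strict
import Mathlib.RingTheory.Polynomial.GaussLemma
import Mathlib.FieldTheory.SeparableClosure

/-!
# Subfields and subrings of a strict henselization
-/

set_option autoImplicit false
set_option linter.style.haveILetI false

universe u

open IsLocalRing Polynomial

noncomputable section

namespace Groth.Agent.H9SInter

/-- A separable irreducible polynomial stays irreducible over an extension in which the base is separably closed. -/
theorem irreducible_map_of_sep {K₀ K : Type u} [Field K₀] [Field K] [Algebra K₀ K]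
    (hK : ∀ x : K, IsSeparable K₀ x → x ∈ Set.range (algebraMap K₀ K)) {g : K₀[X]} (hg : g.Monic)
    (hirr : Irreducible g) (hsep : g.Separable) : Irreducible (g.map (algebraMap K₀ K)) := by
  let M := AlgebraicClosure K
  have hne1 : g.map (algebraMap K₀ K) ≠ 1 := fun h1 => hirr.not_isUnit (by
    rw [Polynomial.map_injective _ (algebraMap K₀ K).injective (h1.trans (Polynomial.map_one _).symm)]
    exact isUnit_one)
  rw [(hg.map (algebraMap K₀ K)).irreducible_iff_natDegree]
  refine ⟨hne1, fun f₁ f₂ h₁ h₂ hprod => ?_⟩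
  have hlift : ∀ f : K[X], f.Monic → f ∣ g.map (algebraMap K₀ K) → f ∈ Polynomial.lifts (algebraMap K₀ K) := by
    intro f hf hdvd
    rw [Polynomial.lifts_iff_coeff_lifts]
    intro i
    refine hK _ ?_
    let F := separableClosure K₀ M
    have hroots : ∀ r ∈ (f.map (algebraMap K M)).roots, r ∈ F := by
      intro r hr
      rw [mem_separableClosure_iff]
      have h1 := (isRoot_of_mem_roots hr).dvd (Polynomial.map_dvd (algebraMap K M) hdvd)
      rw [Polynomial.map_map, ← IsScalarTower.algebraMap_eq, IsRoot.def, eval_map_algebraMap] at h1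
      exact Polynomial.Separable.of_dvd hsep (minpoly.dvd _ _ h1)
    have hmem : f.map (algebraMap K M) ∈ Polynomial.lifts (algebraMap F M) := by
      rw [(IsAlgClosed.splits _).eq_prod_roots_of_monic (hf.map _)]
      refine Subsemiring.multiset_prod_mem _ _ fun q hq => ?_
      obtain ⟨r, hr, rfl⟩ := Multiset.mem_map.mp hq
      exact ⟨X - C ⟨r, hroots r hr⟩, by simp⟩
    obtain ⟨z, hz⟩ := (Polynomial.lifts_iff_coeff_lifts _).mp hmem i
    rw [coeff_map] at hz
    have hzs : IsSeparable K₀ (algebraMap F M z) := mem_separableClosure_iff.mp z.2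
    rw [hz] at hzs
    rw [IsSeparable, ← minpoly.algebraMap_eq (algebraMap K M).injective]
    exact hzs
  obtain ⟨p₁, hp₁⟩ := hlift f₁ h₁ ⟨f₂, hprod.symm⟩
  obtain ⟨p₂, hp₂⟩ := hlift f₂ h₂ ⟨f₁, by rw [mul_comm, hprod]⟩
  rw [coe_mapRingHom] at hp₁ hp₂
  rw [← hp₁, ← hp₂, natDegree_map, natDegree_map]
  have h : p₁ * p₂ = g := Polynomial.map_injective _ (algebraMap K₀ K).injective
    (by rw [Polynomial.map_mul, hp₁, hp₂, hprod])
  rcases hirr.isUnit_or_isUnit h.symm with hu | hu
  · exact Or.inl (natDegree_eq_zero_of_isUnit hu)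
  · exact Or.inr (natDegree_eq_zero_of_isUnit hu)

variable {R S : Type u} [CommRing R] [HenselianLocalRing R] [CommRing S] [HenselianLocalRing S]
  [Algebra R S] [IsLocalHom (algebraMap R S)]

theorem residue_aeval {T : Type u} [CommRing T] [IsLocalRing T] [Algebra R T] [IsLocalHom (algebraMap R T)]
    (p : R[X]) (a : T) : residue T (aeval a p) = aeval (residue T a) (p.map (residue R)) := by
  rw [← ResidueField.algebraMap_eq, ← ResidueField.algebraMap_eq, aeval_map_algebraMap, ← aeval_algebraMap_apply]

/-- The residual degree of a stage element. -/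
theorem Stage.residue_root {u : S} {g : R[X]} (hs : Stage u g) :
    minpoly (ResidueField R) (residue S u) = g.map (residue R) :=
  (minpoly.eq_of_irreducible_of_monic hs.irreducible (by rw [← residue_aeval, hs.root, map_zero])
    (hs.monic.map _)).symm

section

variable {Ω : Type u} [Field Ω] [Algebra R Ω] (φ : S →ₐ[R] Ω)

/-- Every root of a residually separable equation comes from `S`. -/
theorem Strict.exists_root (h : Strict R S) {f : R[X]} (hf : f.Monic) (hsep : (f.map (residue R)).Separable)
    {y : Ω} (hy : aeval y f = 0) : ∃ w : S, Simple R w ∧ aeval w f = 0 ∧ φ w = y := by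
  classical
  haveI := h.sepClosure.sep_closed
  let fs := (f.map (residue R)).map (algebraMap (ResidueField R) (ResidueField S))
  have hnd : fs.roots.Nodup := nodup_roots hsep.map
  have hcard : fs.roots.toFinset.card = f.natDegree := by
    rw [Multiset.toFinset_card_of_nodup hnd,
      splits_iff_card_roots.mp (IsSepClosed.splits_codomain _ hsep), natDegree_map, hf.natDegree_map]
  have hex : ∀ r : ResidueField S, ∃ w : S,
      r ∈ fs.roots.toFinset → residue S w = r ∧ aeval w f = 0 ∧ IsUnit (aeval w (derivative f)) := by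
    intro r
    by_cases hr : r ∈ fs.roots.toFinset
    swap
    · exact ⟨0, fun h => absurd h hr⟩
    rw [Multiset.mem_toFinset] at hr
    have hr' : aeval r (f.map (residue R)) = 0 := by
      rw [← eval_map_algebraMap]; exact isRoot_of_mem_roots hr
    obtain ⟨a₀, rfl⟩ := residue_surjective r
    have hroot0 : eval a₀ (f.map (algebraMap R S)) ∈ maximalIdeal S := by
      rw [eval_map_algebraMap, ← residue_eq_zero_iff, residue_aeval, hr']
    have hder : ∀ a : S, residue S a = residue S a₀ → IsUnit (aeval a (derivative f)) := fun a ha => by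
      refine IsLocalRing.notMem_maximalIdeal.mp fun hm => ?_
      rw [← residue_eq_zero_iff, residue_aeval, ← derivative_map, ha] at hm
      exact hsep.aeval_derivative_ne_zero hr' hm
    obtain ⟨w, hw, hwa⟩ := HenselianLocalRing.is_henselian (f.map (algebraMap R S)) (hf.map _) a₀ hroot0
      (by rw [derivative_map, eval_map_algebraMap]; exact hder a₀ rfl)
    have hres : residue S w = residue S a₀ := by rwa [← sub_eq_zero, ← map_sub, residue_eq_zero_iff]
    exact ⟨w, fun _ => ⟨hres, by rw [← eval_map_algebraMap]; exact hw, hder w hres⟩⟩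
  choose F hF using hex
  have hinj : Set.InjOn (fun r => φ (F r)) (fs.roots.toFinset : Set (ResidueField S)) := by
    intro r hr r' hr' heq
    by_contra hne
    obtain ⟨hFr, -, -⟩ := hF r hr
    obtain ⟨hFr', -, -⟩ := hF r' hr'
    have hu : IsUnit (F r - F r') := IsLocalRing.notMem_maximalIdeal.mp fun hm => by
      rw [← residue_eq_zero_iff, map_sub, hFr, hFr', sub_eq_zero] at hm
      exact hne hm
    exact (hu.map φ).ne_zero (by rw [map_sub, sub_eq_zero]; exact heq)
  let fΩ := f.map (algebraMap R Ω)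
  have hsub : fs.roots.toFinset.image (fun r => φ (F r)) ⊆ fΩ.roots.toFinset := by
    intro z hz
    obtain ⟨r, hr, rfl⟩ := Finset.mem_image.mp hz
    rw [Multiset.mem_toFinset, mem_roots (hf.map _).ne_zero, IsRoot.def, eval_map_algebraMap,
      aeval_algHom_apply, (hF r hr).2.1, map_zero]
  have hle : fΩ.roots.toFinset.card ≤ (fs.roots.toFinset.image (fun r => φ (F r))).card := by
    rw [Finset.card_image_of_injOn hinj, hcard]
    exact (Multiset.toFinset_card_le _).trans ((card_roots' _).trans natDegree_map_le)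
  have hy' : y ∈ fs.roots.toFinset.image (fun r => φ (F r)) := by
    rw [Finset.eq_of_subset_of_card_le hsub hle, Multiset.mem_toFinset, mem_roots (hf.map _).ne_zero, IsRoot.def,
      eval_map_algebraMap]
    exact hy
  obtain ⟨r, hr, rfl⟩ := Finset.mem_image.mp hy'
  exact ⟨F r, ⟨f, hf, (hF r hr).2.1, (hF r hr).2.2⟩, (hF r hr).2.1, rfl⟩

variable {L : Type u} [Field L] [Algebra R L] (ι : L →ₐ[R] Ω)

/-- `R` contains all simple elements with values in `L`. -/
def Closed : Prop := ∀ w : S, Simple R w → φ w ∈ Set.range ι → w ∈ Set.range (algebraMap R S)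

/-- The integral closure in `L`. -/
theorem integralClosure_henselian :
    ∃ _ : HenselianLocalRing (integralClosure R L), IsLocalHom (algebraMap R (integralClosure R L)) := by
  let N := integralClosure R L
  haveI : IsLocalRing N := by
    obtain ⟨M, hM⟩ := Ideal.exists_maximal N
    haveI := hM
    haveI : (⊥ : Ideal N).IsPrime := Ideal.isPrime_bot
    exact IsLocalRing.of_unique_max_ideal ⟨M, hM, fun M' hM' =>
      haveI := hM'
      H9Hens.maximal_eq_of_prime_le_of_isIntegral (R := R) (P := (⊥ : Ideal N)) bot_le bot_le⟩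
  haveI : IsLocalHom (algebraMap R N) := isLocalHom_algebraMap
  exact ⟨(H9Hens.henselian_of_isIntegral (R := R) (T := N)).1, inferInstance⟩

variable {φ ι}

theorem Strict.irreducible_map (h : Strict R S) (hc : Closed φ ι) {u : S} {g : R[X]} (hs : Stage u g) :
    Irreducible (g.map (algebraMap R L)) := by
  obtain ⟨hH, hloc⟩ := integralClosure_henselian (R := R) (L := L)
  let N := integralClosure R L
  haveI := hH; haveI := hloc
  have hsepN : ∀ x : ResidueField N, IsSeparable (ResidueField R) x →
      x ∈ Set.range (algebraMap (ResidueField R) (ResidueField N)) := by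
    intro x hx
    obtain ⟨y, f, rfl, -, hf⟩ := exists_simple_lift (R := R) (S := N) hx
    have hy : aeval (ι (y : L)) f = 0 := by
      rw [aeval_algHom_apply, ← Polynomial.aeval_subalgebra_coe, hf.root]
      simp
    obtain ⟨w, hws, -, hw⟩ := h.exists_root φ hf.monic hf.separable hy
    obtain ⟨r, hr⟩ := hc w hws ⟨y, hw.symm⟩
    refine ⟨residue R r, ?_⟩
    have hyr : y = algebraMap R N r := Subtype.ext (ι.toRingHom.injective (by
      show ι (y : L) = ι (algebraMap R L r)
      rw [← hw, ← hr, φ.commutes, ι.commutes]))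
    rw [hyr]
    rfl
  have hm := hs.monic.map (algebraMap R L)
  have hirrN : Irreducible ((g.map (algebraMap R N)).map (residue N)) := by
    rw [map_map, show (residue N).comp (algebraMap R N) =
      (algebraMap (ResidueField R) (ResidueField N)).comp (residue R) from RingHom.ext fun _ => rfl, ← map_map]
    exact irreducible_map_of_sep hsepN (hs.monic.map _) hs.irreducible hs.separable
  rw [hm.irreducible_iff_natDegree]
  refine ⟨fun h1 => ?_, fun f₁ f₂ h₁ h₂ hprod => ?_⟩
  · have := congrArg natDegree h1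
    rw [hs.monic.natDegree_map, natDegree_one] at this
    exact absurd this hs.natDegree_pos.ne'
  obtain ⟨p₁, hp₁, -, hp₁m⟩ := lifts_and_natDegree_eq_and_monic
    (integralClosure.mem_lifts_of_monic_of_dvd_map L hs.monic h₁ ⟨f₂, hprod.symm⟩) h₁
  obtain ⟨p₂, hp₂, -, hp₂m⟩ := lifts_and_natDegree_eq_and_monic
    (integralClosure.mem_lifts_of_monic_of_dvd_map L hs.monic h₂ ⟨f₁, by rw [mul_comm, hprod]⟩) h₂
  have h12 : p₁ * p₂ = g.map (algebraMap R N) := Polynomial.map_injective (algebraMap N L) Subtype.val_injective (by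
    rw [Polynomial.map_mul, hp₁, hp₂, hprod, map_map, ← IsScalarTower.algebraMap_eq])
  rw [← hp₁, ← hp₂, hp₁m.natDegree_map, hp₂m.natDegree_map, ← hp₁m.natDegree_map (residue N),
    ← hp₂m.natDegree_map (residue N)]
  rcases hirrN.isUnit_or_isUnit (show _ = p₁.map (residue N) * p₂.map (residue N) by
    rw [← Polynomial.map_mul, h12]) with hu | hu
  · exact Or.inl (natDegree_eq_zero_of_isUnit hu)
  · exact Or.inr (natDegree_eq_zero_of_isUnit hu)

/-- Independence over `L` of the powers of a stage generator. -/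
theorem Strict.eq_zero_of_eval₂ (h : Strict R S) (hc : Closed φ ι) {u : S} {g : R[X]} (hs : Stage u g)
    {q : L[X]} (hq : q.natDegree < g.natDegree) (h0 : eval₂ ι.toRingHom (φ u) q = 0) : q = 0 := by
  letI : Algebra L Ω := ι.toRingHom.toAlgebra
  haveI : IsScalarTower R L Ω := IsScalarTower.of_algebraMap_eq fun r => (ι.commutes r).symm
  have hroot : aeval (φ u) (g.map (algebraMap R L)) = 0 := by
    rw [aeval_map_algebraMap, aeval_algHom_apply, hs.root, map_zero]
  by_contra hne
  have h1 := natDegree_le_natDegree (minpoly.degree_le_of_ne_zero L (φ u) hne (show aeval (φ u) q = 0 from h0))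
  rw [← minpoly.eq_of_irreducible_of_monic (h.irreducible_map hc hs) hroot (hs.monic.map _),
    hs.monic.natDegree_map] at h1
  omega

theorem eval₂_map (p : R[X]) (u : S) :
    eval₂ ι.toRingHom (φ u) (p.map (algebraMap R L)) = φ (aeval u p) := by
  rw [Polynomial.eval₂_map, AlgHom.toRingHom_eq_coe, AlgHom.comp_algebraMap, ← aeval_def, aeval_algHom_apply]

/-- Elements of `S` with values in `L` come from `R` modulo the contraction of the kernel. -/
theorem Strict.exists_of_range (h : Strict R S) (hc : Closed φ ι) {s : S} {z : L} (hz : φ s = ι z) :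
    ∃ r : R, algebraMap R L r = z ∧
      s - algebraMap R S r ∈ (RingHom.ker (φ.toRingHom.comp (algebraMap R S))).map (algebraMap R S) := by
  obtain ⟨u, g, hs, -, hF⟩ := h.exists_stage (Set.finite_singleton s)
  obtain ⟨p, hp, rfl⟩ := hs.exists_repr (hF rfl)
  have hq : (p.map (algebraMap R L) - C z) = 0 := by
    refine h.eq_zero_of_eval₂ hc hs ?_ ?_
    · refine lt_of_le_of_lt (natDegree_sub_le _ _) ?_
      rw [natDegree_C, max_lt_iff]
      exact ⟨natDegree_map_le.trans_lt hp, hs.natDegree_pos⟩
    · rw [eval₂_sub, eval₂_C, eval₂_map, hz]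
      exact sub_self _
  rw [sub_eq_zero] at hq
  refine ⟨p.coeff 0, by simpa using congrArg (fun q => q.coeff 0) hq, ?_⟩
  rw [aeval_eq_sum_range, Finset.sum_range_succ', pow_zero, Algebra.smul_def (p.coeff 0) (1 : S), mul_one,
    add_sub_cancel_right]
  refine Ideal.sum_mem _ fun i _ => ?_
  rw [Algebra.smul_def]
  refine Ideal.mul_mem_right _ _ (Ideal.mem_map_of_mem _ ?_)
  have h1 : algebraMap R L (p.coeff (i + 1)) = 0 := by
    simpa using congrArg (fun q => q.coeff (i + 1)) hq
  show φ (algebraMap R S (p.coeff (i + 1))) = 0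
  rw [φ.commutes, ← ι.commutes, h1, map_zero]

/-- Fractions with values in `L` are fractions of `R`. -/
theorem Strict.exists_fraction (h : Strict R S) (hc : Closed φ ι) {a b : S} {z : L} (hb : φ b ≠ 0)
    (hab : ι z * φ b = φ a) : ∃ r r' : R, algebraMap R L r' ≠ 0 ∧ z * algebraMap R L r' = algebraMap R L r := by
  obtain ⟨u, g, hs, -, hF⟩ := h.exists_stage ((Set.finite_singleton a).insert b)
  obtain ⟨pb, hpb, rfl⟩ := hs.exists_repr (hF (Set.mem_insert _ _))
  obtain ⟨pa, hpa, rfl⟩ := hs.exists_repr (hF (Set.mem_insert_of_mem _ rfl))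
  have hq : C z * pb.map (algebraMap R L) - pa.map (algebraMap R L) = 0 := by
    refine h.eq_zero_of_eval₂ hc hs ?_ ?_
    · refine lt_of_le_of_lt (natDegree_sub_le _ _) (max_lt_iff.mpr ⟨?_, natDegree_map_le.trans_lt hpa⟩)
      exact ((natDegree_C_mul_le _ _).trans natDegree_map_le).trans_lt hpb
    · rw [eval₂_sub, eval₂_mul, eval₂_C, eval₂_map, eval₂_map]
      exact sub_eq_zero.mpr hab
  have hne : pb.map (algebraMap R L) ≠ 0 := fun h0 => hb (by
    rw [← eval₂_map (ι := ι), h0, eval₂_zero])
  obtain ⟨i, hi⟩ : ∃ i, (pb.map (algebraMap R L)).coeff i ≠ 0 := by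
    by_contra hcon
    push Not at hcon
    exact hne (Polynomial.ext fun i => by simpa using hcon i)
  rw [coeff_map] at hi
  exact ⟨pa.coeff i, pb.coeff i, hi, by
    simpa [sub_eq_zero] using congrArg (fun q => q.coeff i) hq⟩

end

/-- Purity: ideals of `R` are contracted from `S`. -/
theorem Strict.exists_coeff (h : Strict R S) {I : Ideal R} {x : S} (hx : x ∈ I.map (algebraMap R S)) :
    ∃ F : Set S, F.Finite ∧ ∀ (u : S) (g : R[X]), Stage u g → F ⊆ Algebra.adjoin R {u} →
      ∃ p : R[X], (∀ i, p.coeff i ∈ I) ∧ p.natDegree < g.natDegree ∧ aeval u p = x := by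
  suffices H : ∃ F : Set S, F.Finite ∧ ∀ (u : S) (g : R[X]), Stage u g → F ⊆ Algebra.adjoin R {u} →
      ∃ p : R[X], p ∈ I.map (C : R →+* R[X]) ∧ aeval u p = x by
    obtain ⟨F, hF, H⟩ := H
    refine ⟨F, hF, fun u g hs hu => ?_⟩
    obtain ⟨p, hp, rfl⟩ := H u g hs hu
    refine ⟨p %ₘ g, fun i => ?_, natDegree_modByMonic_lt p hs.monic (fun h1 => by simpa [h1] using hs.natDegree_pos),
      aeval_modByMonic_eq_self_of_root hs.root⟩
    have hp0 : p.map (Ideal.Quotient.mk I) = 0 := Polynomial.ext fun j => by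
      rw [coeff_map, coeff_zero, Ideal.Quotient.eq_zero_iff_mem]
      exact Ideal.mem_map_C_iff.mp hp j
    rw [← Ideal.Quotient.eq_zero_iff_mem, ← coeff_map, map_modByMonic _ hs.monic, hp0, zero_modByMonic, coeff_zero]
  induction hx using Submodule.span_induction with
  | mem y hy =>
    obtain ⟨r, hr, rfl⟩ := hy
    exact ⟨∅, Set.finite_empty, fun u g _ _ => ⟨C r, Ideal.mem_map_of_mem _ hr, aeval_C u r⟩⟩
  | zero => exact ⟨∅, Set.finite_empty, fun u g _ _ => ⟨0, zero_mem _, map_zero _⟩⟩
  | add a b _ _ iha ihb =>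
    obtain ⟨Fa, hFa, ha⟩ := iha
    obtain ⟨Fb, hFb, hb⟩ := ihb
    refine ⟨Fa ∪ Fb, hFa.union hFb, fun u g hs hu => ?_⟩
    obtain ⟨pa, hpa, rfl⟩ := ha u g hs (Set.subset_union_left.trans hu)
    obtain ⟨pb, hpb, rfl⟩ := hb u g hs (Set.subset_union_right.trans hu)
    exact ⟨pa + pb, add_mem hpa hpb, map_add _ _ _⟩
  | smul c a _ iha =>
    obtain ⟨Fa, hFa, ha⟩ := iha
    refine ⟨insert c Fa, hFa.insert c, fun u g hs hu => ?_⟩
    obtain ⟨pa, hpa, rfl⟩ := ha u g hs ((Set.subset_insert _ _).trans hu)
    obtain ⟨pc, -, rfl⟩ := hs.exists_repr (hu (Set.mem_insert _ _))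
    exact ⟨pc * pa, Ideal.mul_mem_left _ _ hpa, by rw [map_mul, smul_eq_mul]⟩

theorem Strict.comap_map (h : Strict R S) (I : Ideal R) : (I.map (algebraMap R S)).comap (algebraMap R S) = I := by
  refine le_antisymm (fun x hx => ?_) Ideal.le_comap_map
  obtain ⟨F, hF, hI⟩ := h.exists_coeff hx
  obtain ⟨u, g, hs, -, hu⟩ := h.exists_stage hF
  obtain ⟨p, hp, hpd, hpx⟩ := hI u g hs hu
  have h1 : p - C x = 0 := h.eq_zero_of_aeval hs
    (lt_of_le_of_lt (natDegree_sub_le _ _) (by rw [natDegree_C, max_lt_iff]; exact ⟨hpd, hs.natDegree_pos⟩))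
    (by rw [map_sub, hpx, aeval_C, sub_self])
  rw [sub_eq_zero.mp h1] at hp
  simpa using hp 0

theorem Strict.isNoetherianRing (h : Strict R S) [IsNoetherianRing S] : IsNoetherianRing R := by
  refine isNoetherianRing_iff.mpr (isNoetherian_iff'.mpr ?_)
  exact ((OrderEmbedding.ofMapLEIff (fun I : Ideal R => I.map (algebraMap R S)) fun I J =>
    ⟨fun hIJ => by have := Ideal.comap_mono (f := algebraMap R S) hIJ; rwa [h.comap_map, h.comap_map] at this,
      fun hIJ => Ideal.map_mono hIJ⟩).wellFoundedGT)

theorem Strict.injective (h : Strict R S) : Function.Injective (algebraMap R S) := by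
  rw [RingHom.injective_iff_ker_eq_bot, RingHom.ker_eq_comap_bot]
  have := h.comap_map ⊥
  rwa [Ideal.map_bot] at this

/-- A simple element whose value is a fraction of `R` lies in `R`, when the kernel is extended from `R`. -/
theorem Strict.mem_range_of_fraction (h : Strict R S) {Ω : Type u} [Field Ω] [Algebra R Ω] {φ : S →ₐ[R] Ω}
    (hker : RingHom.ker φ.toRingHom ≤ (RingHom.ker (φ.toRingHom.comp (algebraMap R S))).map (algebraMap R S))
    {w : S} (hw : Simple R w) {a b : R} (hb : algebraMap R Ω b ≠ 0)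
    (hab : φ w * algebraMap R Ω b = algebraMap R Ω a) : w ∈ Set.range (algebraMap R S) := by
  obtain ⟨u, g, hs, hadj, hu⟩ := H9SInter.exists_stage (R := R) (Set.finite_singleton w) (fun x hx => hx ▸ hw)
  obtain ⟨pw, hpw, hpwu⟩ := hs.exists_repr (hadj ▸ Algebra.subset_adjoin rfl : w ∈ Algebra.adjoin R {u})
  let P := RingHom.ker (φ.toRingHom.comp (algebraMap R S))
  have hQ : aeval u (C b * pw - C a) ∈ P.map (algebraMap R S) := hker (by
    show φ _ = 0
    rw [map_sub, map_sub, map_mul, aeval_C, aeval_C, hpwu, map_mul, φ.commutes, φ.commutes, mul_comm, hab,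
      sub_self])
  let U := Algebra.adjoin R ({u} : Set S)
  obtain ⟨hH, hUS, hint, hU⟩ := h.adjoin (W := {u}) fun x hx => hx ▸ hu
  haveI := hH; haveI := hUS
  let uU : U := ⟨u, Algebra.subset_adjoin rfl⟩
  have hmem : aeval uU (C b * pw - C a) ∈ P.map (algebraMap R U) := by
    rw [← hU.comap_map (P.map (algebraMap R U)), Ideal.mem_comap, Ideal.map_map, ← IsScalarTower.algebraMap_eq]
    show ((aeval uU (C b * pw - C a) : U) : S) ∈ _
    rw [Polynomial.aeval_subalgebra_coe]
    exact hQ
  obtain ⟨q, hq, hqe⟩ : ∃ q : R[X], q ∈ P.map C ∧ aeval uU q = aeval uU (C b * pw - C a) := by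
    have hsurj : Function.Surjective (aeval uU : R[X] →ₐ[R] U) := by
      rintro ⟨t, ht⟩
      obtain ⟨p, -, hp⟩ := hs.exists_repr ht
      exact ⟨p, Subtype.ext (by rw [Polynomial.aeval_subalgebra_coe]; exact hp)⟩
    rw [show algebraMap R U = ((aeval uU : R[X] →ₐ[R] U) : R[X] →+* U).comp C from
      RingHom.ext fun r => (aeval_C uU r).symm, ← Ideal.map_map] at hmem
    exact (Ideal.mem_map_iff_of_surjective ((aeval uU : R[X] →ₐ[R] U) : R[X] →+* U) hsurj).mp hmem
  let q' := q %ₘ g
  have hq' : ∀ i, q'.coeff i ∈ P := fun i => by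
    have hp0 : q.map (Ideal.Quotient.mk P) = 0 := Polynomial.ext fun j => by
      rw [coeff_map, coeff_zero, Ideal.Quotient.eq_zero_iff_mem]
      exact Ideal.mem_map_C_iff.mp hq j
    rw [← Ideal.Quotient.eq_zero_iff_mem, ← coeff_map, map_modByMonic _ hs.monic, hp0, zero_modByMonic, coeff_zero]
  have heq : q' - (C b * pw - C a) = 0 := by
    refine h.eq_zero_of_aeval hs ?_ ?_
    · refine lt_of_le_of_lt (natDegree_sub_le _ _) (max_lt_iff.mpr
        ⟨natDegree_modByMonic_lt q hs.monic (fun h1 => by simpa [h1] using hs.natDegree_pos),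
          lt_of_le_of_lt (natDegree_sub_le _ _) (max_lt_iff.mpr
            ⟨(natDegree_C_mul_le _ _).trans_lt hpw, by rw [natDegree_C]; exact hs.natDegree_pos⟩)⟩)
    · have h1 := congrArg Subtype.val hqe
      rw [Polynomial.aeval_subalgebra_coe, Polynomial.aeval_subalgebra_coe] at h1
      rw [map_sub, aeval_modByMonic_eq_self_of_root hs.root]
      exact sub_eq_zero.mpr h1
  by_contra hnot
  obtain ⟨i, hi, hi0⟩ : ∃ i, i ≠ 0 ∧ pw.coeff i ∉ P := by
    by_contra hcon
    push Not at hcon
    -- then `w` is congruent to a constant, and the relation determines it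
    have hd : 1 < g.natDegree := by
      by_contra hd
      exact hnot ⟨pw.coeff 0, by
        rw [← hpwu, eq_C_of_natDegree_eq_zero (show pw.natDegree = 0 by omega), aeval_C, coeff_C_zero]⟩
    have hmap : (g.map (residue R)).natDegree ≤ 1 := by
      haveI : IsLocalHom (algebraMap R U) := isLocalHom_algebraMap
      have hpwres : pw.map (residue R) = C (residue R (pw.coeff 0)) := Polynomial.ext fun i => by
        rw [coeff_map, coeff_C]
        split_ifs with hi
        · rw [hi]
        · refine (residue_eq_zero_iff _).mpr (le_maximalIdeal (fun htop => hb ?_) (hcon i hi))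
          have : (1 : R) ∈ P := htop ▸ trivial
          simp [P] at this
      have hwres : residue S w = algebraMap (ResidueField R) (ResidueField S) (residue R (pw.coeff 0)) := by
        rw [← hpwu, residue_aeval, hpwres, aeval_C]
      have hures : residue S u ∈ Set.range (algebraMap (ResidueField R) (ResidueField S)) := by
        obtain ⟨q, hq⟩ : u ∈ (aeval w : R[X] →ₐ[R] S).range := by
          rw [← Algebra.adjoin_singleton_eq_range_aeval, ← hadj]; exact Algebra.subset_adjoin rfl
        refine ⟨(q.map (residue R)).eval (residue R (pw.coeff 0)), ?_⟩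
        rw [← hq]
        show _ = residue S (aeval w q)
        rw [residue_aeval, hwres, aeval_algebraMap_apply, coe_aeval_eq_eval]
      obtain ⟨c, hc⟩ := hures
      rw [← hs.residue_root, ← hc, minpoly.eq_X_sub_C]
      exact (natDegree_X_sub_C _).le
    rw [hs.monic.natDegree_map] at hmap
    omega
  have hcoef : q'.coeff i = b * pw.coeff i := by
    rw [sub_eq_zero.mp heq, coeff_sub, coeff_C_mul, coeff_C, if_neg hi, sub_zero]
  haveI : P.IsPrime := RingHom.ker_isPrime _
  refine ((Ideal.IsPrime.mem_or_mem ‹_› (hcoef ▸ hq' i)).resolve_right hi0 |> fun hbP => hb ?_)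
  rw [← φ.commutes]
  exact hbP

end Groth.Agent.H9SInter
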