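import Groth.Agent.H9SInter.Closed
import Groth.Agent.S2654
import Groth.Prelude.Def_EGA4b

/-!
# Subfields of the fraction field of a component of a strict henselization
-/

set_option autoImplicit false
set_option linter.style.haveILetI false

universe u

open IsLocalRing Polynomial

noncomputable section

namespace Groth.Agent.H9SInter

/-- Finiteness of the integral closure in a finitely generated algebraic extension. -/
theorem finite_integralClosure_of_isNagata {A L : Type u} [CommRing A] [Field L] [Algebra A L]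
    (hA : CAlg.IsNagata A) (t : Set L) (ht : t.Finite)
    (halg : ∀ z ∈ t, ∃ b : L, b ≠ 0 ∧ IsIntegral A b ∧ IsIntegral A (z * b))
    (hgen : Subfield.closure (Set.range (algebraMap A L) ∪ t) = ⊤) :
    Module.Finite A (integralClosure A L) := by
  let p : Ideal A := RingHom.ker (algebraMap A L)
  haveI : p.IsPrime := RingHom.ker_isPrime _
  let D := A ⧸ p
  let g : D →+* L := RingHom.kerLift (algebraMap A L)
  have hg : Function.Injective g := RingHom.kerLift_injective _
  letI : Algebra D L := g.toAlgebra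
  haveI : IsScalarTower A D L := IsScalarTower.of_algebraMap_eq fun _ => rfl
  let FD := FractionRing D
  obtain ⟨j, hj⟩ : ∃ j : FD →+* L, ∀ z, j (algebraMap D FD z) = g z :=
    ⟨IsFractionRing.lift hg, fun z => IsFractionRing.lift_algebraMap hg z⟩
  letI : Algebra FD L := j.toAlgebra
  haveI : IsScalarTower D FD L := IsScalarTower.of_algebraMap_eq fun z => (hj z).symm
  haveI : IsScalarTower A FD L := IsScalarTower.of_algebraMap_eq fun a => (hj (Ideal.Quotient.mk p a)).symm
  have hint : ∀ z ∈ t, IsIntegral FD z := by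
    intro z hz
    obtain ⟨b, hb, hbi, hzb⟩ := halg z hz
    have := (hzb.tower_top (A := FD)).mul (hbi.tower_top (A := FD)).inv
    rwa [mul_inv_cancel_right₀ hb] at this
  have htop : IntermediateField.adjoin FD t = ⊤ := by
    rw [eq_top_iff]
    intro x _
    have hx : x ∈ Subfield.closure (Set.range (algebraMap A L) ∪ t) := by rw [hgen]; trivial
    refine (Subfield.closure_le (t := (IntermediateField.adjoin FD t).toSubfield)).mpr ?_ hx
    rintro y (⟨a, rfl⟩ | hy)
    · rw [IsScalarTower.algebraMap_apply A FD L]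
      exact (IntermediateField.adjoin FD t).algebraMap_mem _
    · exact IntermediateField.subset_adjoin FD t hy
  haveI := ht.to_subtype
  haveI : FiniteDimensional FD L := by
    have := IntermediateField.finiteDimensional_adjoin (K := FD) (S := t) hint
    rw [htop] at this
    exact LinearEquiv.finiteDimensional (IntermediateField.topEquiv (F := FD) (E := L)).toLinearEquiv
  haveI := hA.2 p L inferInstance
  haveI : Module.Finite A D := Module.Finite.of_surjective (Ideal.Quotient.mkₐ A p).toLinearMap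
    Ideal.Quotient.mk_surjective
  let inc : integralClosure A L →ₗ[A] integralClosure D L :=
    { toFun := fun x => ⟨x, x.2.tower_top⟩
      map_add' := fun _ _ => rfl
      map_smul' := fun _ _ => rfl }
  haveI : Module.Finite A (integralClosure D L) := Module.Finite.trans D _
  haveI : IsNoetherianRing A := hA.1
  exact Module.Finite.of_injective inc fun x y h => Subtype.ext (congrArg Subtype.val h :)

/-- The trace of a finitely generated subfield on a component of the strict henselization. -/
theorem exists_image {A S : Type u} [CommRing A] [HenselianLocalRing A] (hA : EGA4.IsExcellent A)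
    [CommRing S] [IsLocalRing S] [Algebra A S] [IsLocalHom (algebraMap A S)]
    [hS : Hensel.IsStrictHenselization A S] (Q : Ideal S) [Q.IsPrime] (t : Finset (FractionRing (S ⧸ Q))) :
    ∃ v : S, Simple A v ∧
      (∀ e ∈ Algebra.adjoin A ({v} : Set S), algebraMap (S ⧸ Q) (FractionRing (S ⧸ Q)) (Ideal.Quotient.mk Q e) ∈
        Subfield.closure (Set.range (algebraMap A (FractionRing (S ⧸ Q))) ∪ (t : Set (FractionRing (S ⧸ Q))))) ∧
      (∀ x : S, algebraMap (S ⧸ Q) (FractionRing (S ⧸ Q)) (Ideal.Quotient.mk Q x) ∈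
          Subfield.closure (Set.range (algebraMap A (FractionRing (S ⧸ Q))) ∪ (t : Set (FractionRing (S ⧸ Q)))) →
        ∃ e ∈ Algebra.adjoin A ({v} : Set S), Ideal.Quotient.mk Q e = Ideal.Quotient.mk Q x) ∧
      (∀ l ∈ Subfield.closure (Set.range (algebraMap A (FractionRing (S ⧸ Q))) ∪
          (t : Set (FractionRing (S ⧸ Q)))),
        ∃ e ∈ Algebra.adjoin A ({v} : Set S), ∃ e' ∈ Algebra.adjoin A ({v} : Set S),
          algebraMap (S ⧸ Q) (FractionRing (S ⧸ Q)) (Ideal.Quotient.mk Q e') ≠ 0 ∧
          l * algebraMap (S ⧸ Q) (FractionRing (S ⧸ Q)) (Ideal.Quotient.mk Q e') =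
            algebraMap (S ⧸ Q) (FractionRing (S ⧸ Q)) (Ideal.Quotient.mk Q e)) ∧
      Q = (Q.comap (algebraMap (Algebra.adjoin A ({v} : Set S)) S)).map
        (algebraMap (Algebra.adjoin A ({v} : Set S)) S) := by
  haveI := hS.henselian
  have h : Strict A S := Strict.of_isStrictHenselization
  haveI := h.isIntegral
  have hN : CAlg.IsNagata A := Groth.Agent.S2654.result A ⟨hA.1, hA.2.2.1, hA.2.2.2⟩
  let K := FractionRing (S ⧸ Q)
  let Lf : Subfield K := Subfield.closure (Set.range (algebraMap A K) ∪ (t : Set K))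
  obtain ⟨φ, hφ⟩ : ∃ φ : S →ₐ[A] K, ∀ x, φ x = algebraMap (S ⧸ Q) K (Ideal.Quotient.mk Q x) :=
    ⟨(IsScalarTower.toAlgHom A (S ⧸ Q) K).comp (Ideal.Quotient.mkₐ A Q), fun x => rfl⟩
  have hker : RingHom.ker φ.toRingHom = Q := by
    ext x
    rw [RingHom.mem_ker]
    show φ x = 0 ↔ _
    rw [hφ, map_eq_zero_iff _ (IsFractionRing.injective (S ⧸ Q) K), Ideal.Quotient.eq_zero_iff_mem]
  let g : A →+* Lf := (algebraMap A K).codRestrict Lf fun a => Subfield.subset_closure (Or.inl ⟨a, rfl⟩)
  letI : Algebra A Lf := g.toAlgebra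
  let ι : Lf →ₐ[A] K := { Lf.subtype with commutes' := fun a => rfl }
  obtain ⟨hH, hloc⟩ := integralClosure_henselian (R := A) (L := Lf)
  haveI := hH; haveI := hloc
  haveI : Module.Finite A (integralClosure A Lf) := by
    refine finite_integralClosure_of_isNagata hN (Lf.subtype ⁻¹' (t : Set K))
      (t.finite_toSet.preimage Lf.subtype.injective.injOn) (fun z hz => ?_) ?_
    · obtain ⟨a, b, hb, hab⟩ := IsFractionRing.div_surjective (A := S ⧸ Q) (Lf.subtype z)
      have hb0 : algebraMap (S ⧸ Q) K b ≠ 0 := IsFractionRing.to_map_ne_zero_of_mem_nonZeroDivisors hb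
      obtain ⟨b, rfl⟩ := Ideal.Quotient.mk_surjective b
      obtain ⟨a, rfl⟩ := Ideal.Quotient.mk_surjective a
      have hiv : (φ b) ≠ 0 := by rw [hφ]; exact hb0
      -- a nonzero multiple of the denominator in the image of `A`
      haveI : IsDomain (S ⧸ Q) := Ideal.Quotient.isDomain Q
      let p := RingHom.ker (algebraMap A (S ⧸ Q))
      obtain ⟨r, c, hc, hrc⟩ : ∃ (r : S) (c : A), algebraMap A K c ≠ 0 ∧ φ b * φ r = algebraMap A K c := by
        by_contra hcon
        push Not at hcon
        have hb' : Ideal.Quotient.mk Q b ≠ 0 := fun h0 => hb0 (by rw [h0, map_zero])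
        obtain ⟨c, hc, hc0⟩ := SetLike.exists_of_lt (Ideal.comap_lt_comap_of_integral_mem_sdiff (R := A)
          (I := (⊥ : Ideal (S ⧸ Q))) (J := Ideal.span {Ideal.Quotient.mk Q b}) bot_le
          ⟨Ideal.mem_span_singleton_self _, fun h0 => hb' h0⟩ (Algebra.IsIntegral.isIntegral _))
        obtain ⟨r, hr⟩ := Ideal.mem_span_singleton.mp hc
        obtain ⟨r, rfl⟩ := Ideal.Quotient.mk_surjective r
        refine hcon r c (fun h0 => hc0 ?_) ?_
        · rw [Ideal.mem_comap, Ideal.mem_bot]
          rw [IsScalarTower.algebraMap_apply A (S ⧸ Q) K] at h0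
          exact IsFractionRing.injective (S ⧸ Q) K (h0.trans (map_zero _).symm)
        · rw [hφ, hφ, ← map_mul, IsScalarTower.algebraMap_apply A (S ⧸ Q) K]
          exact congrArg (algebraMap (S ⧸ Q) K) hr.symm
      refine ⟨algebraMap A Lf c, fun h0 => hc (congrArg Lf.subtype h0), isIntegral_algebraMap, ?_⟩
      refine (isIntegral_algHom_iff ι ι.toRingHom.injective).mp ?_
      rw [map_mul, AlgHom.commutes, ← hrc, ← mul_assoc, show ι z * φ b = φ a by
        rw [hφ, hφ]; exact (eq_div_iff hb0).mp hab.symm]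
      exact ((Algebra.IsIntegral.isIntegral a).map φ).mul ((Algebra.IsIntegral.isIntegral r).map φ)
    · rw [eq_top_iff]
      intro z _
      have h1 : Lf.subtype z ∈ (Subfield.closure (Set.range (algebraMap A Lf) ∪ Lf.subtype ⁻¹' (t : Set K))).map
          Lf.subtype := by
        rw [RingHom.map_field_closure, Set.image_union, ← Set.range_comp, Set.image_preimage_eq_of_subset
          (show (t : Set K) ⊆ Set.range Lf.subtype from fun z hz => ⟨⟨z, Subfield.subset_closure (Or.inr hz)⟩, rfl⟩)]
        exact z.2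
      obtain ⟨y, hy, hyz⟩ := h1
      exact Lf.subtype.injective hyz ▸ hy
  haveI : Module.Finite (ResidueField A) (ResidueField (integralClosure A Lf)) := inferInstance
  obtain ⟨v, hv, ⟨zv, hzv⟩, h1, h2, h3⟩ := h.exists_generated φ ι
    (fun w hw hwι => degree_bound φ ι hw hwι)
  have hvL : Algebra.adjoin A ({v} : Set S) ≤ ι.range.comap φ := Algebra.adjoin_le fun x hx => by
    rw [Set.mem_singleton_iff.mp hx]; exact ⟨zv, hzv⟩
  refine ⟨v, hv, fun e he => ?_, fun x hx => ?_, fun l hl => ?_, ?_⟩
  · rw [← hφ]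
    obtain ⟨z, hz⟩ := hvL he
    rw [show φ e = ι z from hz.symm]
    exact z.2
  · obtain ⟨e, he, hee⟩ := h1 x ⟨⟨φ x, show φ x ∈ Lf by rw [hφ]; exact hx⟩, rfl⟩
    rw [hφ, hφ] at hee
    exact ⟨e, he, IsFractionRing.injective (S ⧸ Q) K hee⟩
  · obtain ⟨a, b, hb, hab⟩ := IsFractionRing.div_surjective (A := S ⧸ Q) l
    have hb0 : algebraMap (S ⧸ Q) K b ≠ 0 := IsFractionRing.to_map_ne_zero_of_mem_nonZeroDivisors hb
    obtain ⟨b, rfl⟩ := Ideal.Quotient.mk_surjective b
    obtain ⟨a, rfl⟩ := Ideal.Quotient.mk_surjective a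
    rw [← hφ] at hb0
    obtain ⟨e, he, e', he', hne, hee⟩ := h2 a b ⟨l, hl⟩ hb0 (by
      rw [hφ, hφ]; exact (eq_div_iff (by rwa [← hφ])).mp hab.symm)
    rw [hφ] at hne
    rw [hφ, hφ] at hee
    exact ⟨e, he, e', he', hne, hee⟩
  · rwa [hker] at h3

end Groth.Agent.H9SInter
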