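import Groth.Agent.H9SInter.Criterion2
import Groth.Agent.H9SInter.Excellent
import Mathlib.RingTheory.Filtration

/-!
# Noetherian intermediate rings
-/

set_option autoImplicit false
set_option linter.style.haveILetI false

universe u

open IsLocalRing Polynomial

noncomputable section

namespace Groth.Agent.H9SInter

/-- A separable extension with bounded degrees of elements is finite. -/
theorem finiteDimensional_of_bound {F E : Type u} [Field F] [Field E] [Algebra F E] [Algebra.IsSeparable F E]
    {n : ℕ} (hn : ∀ x : E, (minpoly F x).natDegree ≤ n) : FiniteDimensional F E := by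
  let N : Set ℕ := Set.range fun x : E => (minpoly F x).natDegree
  have hb : BddAbove N := ⟨n, by rintro _ ⟨x, rfl⟩; exact hn x⟩
  obtain ⟨x, hx⟩ := Nat.sSup_mem (Set.range_nonempty _) hb
  have hint : ∀ y : E, IsIntegral F y := fun y => (Algebra.IsSeparable.isSeparable F y).isIntegral
  haveI := IntermediateField.adjoin.finiteDimensional (hint x)
  have htop : IntermediateField.adjoin F {x} = ⊤ := by
    rw [eq_top_iff]
    intro y _
    haveI := IntermediateField.adjoin.finiteDimensional (hint y)
    let L := IntermediateField.adjoin F {x} ⊔ IntermediateField.adjoin F {y}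
    haveI : FiniteDimensional F L := IntermediateField.finiteDimensional_sup _ _
    haveI : Algebra.IsSeparable F L := inferInstance
    obtain ⟨z, hz⟩ := Field.exists_primitive_element F L
    have hL : IntermediateField.adjoin F {x} = L := by
      refine IntermediateField.eq_of_le_of_finrank_le le_sup_left ?_
      rw [IntermediateField.adjoin.finrank (hint x), ← IntermediateField.finrank_top' (F := F) (E := L), ← hz,
        IntermediateField.adjoin.finrank (Algebra.IsSeparable.isSeparable F z).isIntegral,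
        ← minpoly.algHom_eq L.val Subtype.val_injective z]
      exact (le_csSup hb ⟨_, rfl⟩).trans hx.ge
    rw [hL]
    exact (le_sup_right : _ ≤ L) (IntermediateField.mem_adjoin_simple_self F y)
  exact LinearEquiv.finiteDimensional
    ((IntermediateField.equivOfEq htop).trans IntermediateField.topEquiv).toLinearEquiv

/-- The degree of a separable element is bounded by the separable degree. -/
theorem natDegree_le_of_finite {F E : Type u} [Field F] [Field E] [Algebra F E]
    [FiniteDimensional F (separableClosure F E)] {x : E} (hx : IsSeparable F x) :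
    (minpoly F x).natDegree ≤ Module.finrank F (separableClosure F E) := by
  rw [show x = (separableClosure F E).val ⟨x, mem_separableClosure_iff.mpr hx⟩ from rfl,
    minpoly.algHom_eq (separableClosure F E).val Subtype.val_injective]
  exact minpoly.natDegree_le _

/-- Approximation by a subring through generators of the maximal ideal. -/
theorem exists_congr_of_generators {D U S : Type u} [CommRing D] [CommRing U] [CommRing S] {k : ℕ} (f : D →+* S)
    (g : U →+* S) (v : Fin k → D) (a : Fin k → U) (hva : ∀ i, g (a i) = f (v i))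
    (hbase : ∀ x : D, ∃ (r : U) (c : Fin k → D), f x = g r + ∑ i, f (c i) * f (v i)) (n : ℕ) (x : D) :
    ∃ t : U, f x - g t ∈ (Ideal.span (Set.range a) ^ n).map g := by
  induction n generalizing x with
  | zero => exact ⟨0, by simp [Ideal.map_top]⟩
  | succ n ih =>
    obtain ⟨r, c, hc⟩ := hbase x
    choose t ht using fun i => ih (c i)
    refine ⟨r + ∑ i, t i * a i, ?_⟩
    have heq : f x - g (r + ∑ i, t i * a i) = ∑ i, (f (c i) - g (t i)) * g (a i) := by
      rw [hc, map_add, map_sum]
      simp only [map_mul, sub_mul, Finset.sum_sub_distrib, hva]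
      ring
    rw [heq, pow_succ, Ideal.map_mul]
    exact Ideal.sum_mem _ fun i _ => Ideal.mul_mem_mul (ht i)
      (Ideal.mem_map_of_mem g (Ideal.subset_span ⟨i, rfl⟩))

/-- The base is closed in a finite algebra. -/
theorem mem_range_of_forall_pow {U T : Type u} [CommRing U] [IsLocalRing U] [IsNoetherianRing U] [CommRing T]
    [Algebra U T] [Module.Finite U T] {I : Ideal U} (hI : I ≠ ⊤) {x : T}
    (hx : ∀ n : ℕ, ∃ t : U, x - algebraMap U T t ∈ (I ^ n).map (algebraMap U T)) :
    x ∈ Set.range (algebraMap U T) := by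
  let N : Submodule U T := LinearMap.range (Algebra.linearMap U T)
  have hmem : N.mkQ x ∈ (⨅ n : ℕ, I ^ n • ⊤ : Submodule U (T ⧸ N)) := by
    rw [Submodule.mem_iInf]
    intro n
    obtain ⟨t, ht⟩ := hx n
    have h2 : x - algebraMap U T t ∈ (I ^ n • ⊤ : Submodule U T) := by
      rw [Ideal.smul_top_eq_map]; exact ht
    have h3 := Submodule.mem_map_of_mem (f := N.mkQ) h2
    rw [Submodule.map_smul'', Submodule.map_top, Submodule.range_mkQ, map_sub] at h3
    rwa [show N.mkQ (algebraMap U T t) = 0 from (Submodule.Quotient.mk_eq_zero N).mpr ⟨t, rfl⟩, sub_zero] at h3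
  rw [Ideal.iInf_pow_smul_eq_bot_of_isLocalRing I hI, Submodule.mem_bot] at hmem
  exact (Submodule.Quotient.mk_eq_zero N).mp hmem

/-- The base is closed in a strict henselization. -/
theorem Strict.mem_range_of_congr {U S : Type u} [CommRing U] [HenselianLocalRing U] [CommRing S]
    [HenselianLocalRing S] [Algebra U S] [IsLocalHom (algebraMap U S)] [IsNoetherianRing U] (hU : Strict U S)
    {I : Ideal U} (hI : I ≠ ⊤) {x : S}
    (hx : ∀ n : ℕ, ∃ t : U, x - algebraMap U S t ∈ (I ^ n).map (algebraMap U S)) :
    x ∈ Set.range (algebraMap U S) := by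
  obtain ⟨u', g', -, hu', hxu⟩ := hU.exists_stage (Set.finite_singleton x)
  let U' := Algebra.adjoin U ({u'} : Set S)
  obtain ⟨hU'H, hU'S, -, hU'⟩ := hU.adjoin (W := {u'}) fun y hy => hy ▸ hu'
  haveI := hU'H; haveI := hU'S
  haveI : Module.Finite U U' := (adjoin_facts (Set.finite_singleton u') (fun y hy => hy ▸ hu')).1
  have hpow : ∀ n : ℕ, ∃ t : U, (⟨x, hxu rfl⟩ : U') - algebraMap U U' t ∈ (I ^ n).map (algebraMap U U') := by
    intro n
    obtain ⟨t, ht⟩ := hx n
    refine ⟨t, ?_⟩
    rw [← hU'.comap_map ((I ^ n).map (algebraMap U U')), Ideal.mem_comap, Ideal.map_map,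
      ← IsScalarTower.algebraMap_eq]
    exact ht
  obtain ⟨t, ht⟩ := mem_range_of_forall_pow hI hpow
  exact ⟨t, congrArg Subtype.val ht⟩

variable {A S : Type u} [CommRing A] [HenselianLocalRing A] [CommRing S] [HenselianLocalRing S]
  [Algebra A S] [IsLocalHom (algebraMap A S)]

omit [HenselianLocalRing A] [HenselianLocalRing S] [IsLocalHom (algebraMap A S)] in
/-- An intermediate ring has finitely many minimal primes. -/
theorem minimalPrimes_finite_of_subalgebra (D : Subalgebra A S) (hfin : (minimalPrimes S).Finite) :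
    (minimalPrimes D).Finite := by
  refine (hfin.image fun Q : Ideal S => Q.comap (algebraMap D S)).subset fun q hq => ?_
  obtain ⟨Q₀, hQ₀, hQ₀q⟩ := Ideal.exists_comap_eq_of_mem_minimalPrimes_of_injective
    (f := D.val.toRingHom) Subtype.val_injective q hq
  haveI := hQ₀
  obtain ⟨Q, hQ, hQle⟩ := Ideal.exists_minimalPrimes_le (bot_le : (⊥ : Ideal S) ≤ Q₀)
  haveI := hQ.isPrime
  exact ⟨Q, hQ, le_antisymm (hQ₀q ▸ Ideal.comap_mono hQle) (hq.2 ⟨inferInstance, bot_le⟩
    (hQ₀q ▸ Ideal.comap_mono hQle))⟩

variable (D : Subalgebra A S) {R : Subalgebra A S} [HenselianLocalRing R] [IsLocalHom (algebraMap R S)]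

/-- An intermediate ring with finitely generated maximal ideal lies in a stage over its core. -/
theorem Strict.exists_stage_of_fg (h : Strict A S) (hRS : Strict R S) (hres : ∀ x ∈ D, ∃ r ∈ R, residue S r = residue S x)
    (hR : R ≤ D) [IsNoetherianRing S] [IsLocalRing D] [IsLocalHom (algebraMap D S)]
    (hfg : (maximalIdeal D).FG) :
    ∃ u : S, Simple R u ∧ ∀ x ∈ D, x ∈ Algebra.adjoin R ({u} : Set S) := by
  obtain ⟨k, v, hv⟩ := Submodule.fg_iff_exists_fin_generating_family.mp hfg
  obtain ⟨u, g, -, hu, hsub⟩ := hRS.exists_stage (Set.finite_range fun i => (v i : S))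
  refine ⟨u, hu, ?_⟩
  let U := Algebra.adjoin R ({u} : Set S)
  obtain ⟨hUH, hUS, -, hU⟩ := hRS.adjoin (W := {u}) fun x hx => hx ▸ hu
  haveI := hUH; haveI := hUS
  haveI : IsNoetherianRing U := hU.isNoetherianRing
  let a : Fin k → U := fun i => ⟨v i, hsub ⟨i, rfl⟩⟩
  let I : Ideal U := Ideal.span (Set.range a)
  have hI : I ≤ maximalIdeal U := Ideal.span_le.mpr fun _ ⟨i, hi⟩ => by
    rw [← hi, SetLike.mem_coe, mem_maximalIdeal]
    intro hunit
    have hm : v i ∈ maximalIdeal D := hv ▸ Submodule.subset_span ⟨i, rfl⟩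
    exact (mem_maximalIdeal _).mp (map_nonunit (algebraMap D S) _ hm) (hunit.map U.val)
  have hbase : ∀ x : D, ∃ (r : U) (c : Fin k → D),
      D.val.toRingHom x = U.val.toRingHom r + ∑ i, D.val.toRingHom (c i) * D.val.toRingHom (v i) := by
    intro x
    obtain ⟨r, hr, hrx⟩ := hres x x.2
    have hmem : x - ⟨r, hR hr⟩ ∈ maximalIdeal D := by
      rw [mem_maximalIdeal]
      intro hunit
      exact (mem_maximalIdeal _).mp ((residue_eq_zero_iff _).mp (show residue S ((x : S) - r) = 0 by
        rw [map_sub, hrx, sub_self])) (hunit.map D.val)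
    rw [← hv] at hmem
    obtain ⟨c, hc⟩ := Ideal.mem_span_range_iff_exists_fun.mp hmem
    refine ⟨algebraMap R U ⟨r, hr⟩, c, ?_⟩
    have h1 := congrArg D.val.toRingHom hc
    rw [map_sum, map_sub] at h1
    simp only [map_mul] at h1
    rw [h1]
    exact (add_sub_cancel _ _).symm
  have hstep := exists_congr_of_generators D.val.toRingHom U.val.toRingHom v a (fun _ => rfl) hbase
  intro x hx
  obtain ⟨t, ht⟩ := hU.mem_range_of_congr (ne_top_of_le_ne_top (maximalIdeal.isMaximal U).ne_top hI)
    (x := x) fun n => hstep n ⟨x, hx⟩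
  exact ht ▸ t.2

variable {Ω : Type u} [Field Ω] [Algebra A Ω] (φ : S →ₐ[A] Ω)
  (hφ : (RingHom.ker φ.toRingHom).comap (algebraMap D S) ∈ minimalPrimes D)

/-- Residual separable degrees at a component extended from a finite stage are bounded. -/
theorem Strict.degree_le_of_extended (h : Strict A S) (hRS : Strict R S) (hR : R ≤ D)
    {W : Set S} (hWf : W.Finite) (hW : ∀ w ∈ W, Simple R w) (hD : ∀ x ∈ D, x ∈ Algebra.adjoin R W)
    (hker : RingHom.ker φ.toRingHom ≤ ((RingHom.ker φ.toRingHom).comap
      (algebraMap (Algebra.adjoin R W) S)).map (algebraMap (Algebra.adjoin R W) S)) :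
    letI : Algebra R Ω := (φ.toRingHom.comp (algebraMap R S)).toAlgebra
    ∀ [IsLocalRing (comp D φ hφ hR)] [IsLocalHom (algebraMap R (comp D φ hφ hR))],
      ∃ n : ℕ, ∀ θ : ResidueField (comp D φ hφ hR), IsSeparable (ResidueField R) θ →
        (minpoly (ResidueField R) θ).natDegree ≤ n := by
  letI : Algebra R Ω := (φ.toRingHom.comp (algebraMap R S)).toAlgebra
  intro _ _
  obtain ⟨-, hCH, -⟩ := h.comp_henselian D φ hφ hR
  haveI := hCH
  let U := Algebra.adjoin R W
  obtain ⟨hUH, hUS, -, hU⟩ := hRS.adjoin hW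
  haveI := hUH; haveI := hUS
  haveI : Module.Finite R U := (adjoin_facts hWf hW).1
  haveI : IsLocalHom (algebraMap R U) := isLocalHom_algebraMap
  refine ⟨Module.finrank (ResidueField R) (ResidueField U), fun θ hθ => ?_⟩
  obtain ⟨y, f, hy, -, hf⟩ := exists_simple_lift (R := R) hθ
  let φR : S →ₐ[R] Ω := { φ.toRingHom with commutes' := fun _ => rfl }
  have hroot : aeval (y : Ω) f = 0 := by
    rw [← Polynomial.aeval_subalgebra_coe, hf.root]; rfl
  obtain ⟨w, hw, -, hwy⟩ := hRS.exists_root φR hf.monic hf.separable hroot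
  obtain ⟨z, hz⟩ := compHom_surjective D φ hφ hR y
  obtain ⟨a, b, hb, hab⟩ := exists_fraction_of_comp D φ hφ z
  have hzy : fracHom D φ hφ z = φR w := (congrArg Subtype.val hz).trans hwy.symm
  letI : Algebra U Ω := (φ.toRingHom.comp (algebraMap U S)).toAlgebra
  let φU : S →ₐ[U] Ω := { φ.toRingHom with commutes' := fun _ => rfl }
  obtain ⟨t, ht⟩ := hU.mem_range_of_fraction (φ := φU) hker hw.tower (a := ⟨a, hD a a.2⟩) (b := ⟨b, hD b b.2⟩) hb
    (by rw [show φU w = φR w from rfl, ← hzy]; exact hab)
  rw [← hy, (minpoly_comp D φ hφ hR y hw hwy).2, ← ht, show residue S (algebraMap U S t) = residue S (U.val t) from rfl,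
    minpoly_residue_map U.val t]
  exact minpoly.natDegree_le _

end Groth.Agent.H9SInter
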