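import Groth.Agent.H9Hens.BranchSum
import Groth.Agent.H9Hens.BranchUnibranch
import Groth.Agent.S0507
import Groth.Agent.S0511
import Groth.Agent.S0514
import Groth.Agent.S0539
import Groth.Agent.S0540
import Groth.Agent.S2747
import Mathlib.RingTheory.IntegralClosure.IsIntegralClosure.Basic

/-!
# Geometric branches and primes extended from the henselization
-/

set_option autoImplicit false
set_option linter.style.haveILetI false

universe u

open IsLocalRing

noncomputable section

namespace Groth.Agent.H9SInter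

/-- A strict henselization is one of the henselization. -/
theorem isStrictHenselization_over {A Ah Ash : Type u} [CommRing A] [IsLocalRing A]
    [CommRing Ah] [IsLocalRing Ah] [Algebra A Ah] [IsLocalHom (algebraMap A Ah)] [hh : Hensel.IsHenselization A Ah]
    [CommRing Ash] [IsLocalRing Ash] [Algebra A Ash] [IsLocalHom (algebraMap A Ash)]
    [hs : Hensel.IsStrictHenselization A Ash] [Algebra Ah Ash] [IsScalarTower A Ah Ash] :
    ∃ _ : IsLocalHom (algebraMap Ah Ash), Hensel.IsStrictHenselization Ah Ash := by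
  haveI hloc : IsLocalHom (algebraMap Ah Ash) := by
    refine ((local_hom_TFAE (algebraMap Ah Ash)).out (a := IsLocalHom (algebraMap Ah Ash)) 0 2).mpr ?_
    rw [← Groth.Agent.S0507.result A Ah, Ideal.map_map, ← IsScalarTower.algebraMap_eq]
    exact map_maximalIdeal_le (algebraMap A Ash)
  haveI : IsScalarTower (ResidueField A) (ResidueField Ah) (ResidueField Ash) :=
    IsScalarTower.of_algebraMap_eq fun a => by
      obtain ⟨a, rfl⟩ := residue_surjective a
      exact congrArg (residue Ash) (IsScalarTower.algebraMap_apply A Ah Ash a)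
  refine ⟨hloc, hs.henselian, ⟨hs.isSepClosure.sep_closed, ?_⟩, fun T _ _ f _ τ hτ => ?_⟩
  · haveI := hs.isSepClosure.separable
    exact Algebra.isSeparable_tower_top_of_isSeparable (ResidueField A) (ResidueField Ah) (ResidueField Ash)
  haveI : IsLocalHom (f.comp (algebraMap A Ah)) := RingHom.isLocalHom_comp f (algebraMap A Ah)
  obtain ⟨g, ⟨hg1, hg2⟩, huniq⟩ := hs.universal T (f.comp (algebraMap A Ah)) τ (RingHom.ext fun a => by
    obtain ⟨a, rfl⟩ := residue_surjective a
    have := RingHom.congr_fun hτ (residue Ah (algebraMap A Ah a))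
    simp only [RingHom.comp_apply, ResidueField.map_residue] at this ⊢
    rwa [← IsScalarTower.algebraMap_apply] at this)
  obtain ⟨g', hg', huniq'⟩ := hh.universal T (f.comp (algebraMap A Ah)) inferInstance
  have hgf : g.comp (algebraMap Ah Ash) = f := by
    rw [huniq' (g.comp (algebraMap Ah Ash)) (by show (g.comp (algebraMap Ah Ash)).comp (algebraMap A Ah) = _; rw [RingHom.comp_assoc, ← IsScalarTower.algebraMap_eq, hg1]),
      huniq' f rfl]
  refine ⟨g, ⟨hgf, hg2⟩, fun k ⟨hk1, hk2⟩ => huniq k ⟨?_, hk2⟩⟩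
  rw [IsScalarTower.algebraMap_eq A Ah Ash, ← RingHom.comp_assoc, hk1]

/-- For a reduced ring the normalisation is the integral closure in the fraction ring. -/
theorem nonempty_normRed_algEquiv (A : Type u) [CommRing A] [IsReduced A] :
    Nonempty (CAlg2.normRed A ≃ₐ[A] integralClosure A (FractionRing A)) := by
  let R := CAlg2.red A
  let Q := FractionRing R
  let e : A ≃+* R := RingEquiv.ofBijective (Ideal.Quotient.mk (nilradical A))
    ⟨(RingHom.injective_iff_ker_eq_bot _).mpr (by rw [Ideal.mk_ker]; exact nilradical_eq_zero A),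
      Ideal.Quotient.mk_surjective⟩
  haveI : IsFractionRing A Q := by
    have h := (IsFractionRing.isFractionRing_iff_of_base_ringEquiv (R := R) (P := A) Q e.symm).mp inferInstance
    have halg : ((algebraMap R Q).comp e.symm.symm.toRingHom).toAlgebra = (inferInstance : Algebra A Q) :=
      Algebra.algebra_ext _ _ fun a => (IsScalarTower.algebraMap_apply A R Q a).symm
    rwa [halg] at h
  obtain ⟨e₁⟩ := H9Hens.nonempty_integralClosure_algEquiv_normRed A
  exact ⟨e₁.symm.trans (AlgEquiv.mapIntegralClosure (IsLocalization.algEquiv (nonZeroDivisors A) Q (FractionRing A)))⟩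

/-- Minimal primes of a strict henselization are extended from the henselization iff there are as many. -/
theorem forall_extended_iff_card {Ah Ash : Type u} [CommRing Ah] [HenselianLocalRing Ah] [IsReduced Ah]
    [CommRing Ash] [IsLocalRing Ash] [Algebra Ah Ash] [IsLocalHom (algebraMap Ah Ash)]
    [Hensel.IsStrictHenselization Ah Ash] (hfin : (minimalPrimes Ash).Finite) :
    (∀ Q ∈ minimalPrimes Ash, Q = Ideal.map (algebraMap Ah Ash) (Q.comap (algebraMap Ah Ash))) ↔
      ENat.card (minimalPrimes Ash) = ENat.card (minimalPrimes Ah) := by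
  haveI := Groth.Agent.S0539.result Ah Ash
  haveI := hfin.to_subtype
  have hcomap : ∀ Q : minimalPrimes Ash, Q.1.comap (algebraMap Ah Ash) ∈ minimalPrimes Ah := fun Q => by
    haveI := Q.2.isPrime
    refine ⟨⟨inferInstance, bot_le⟩, fun p hp hle => ?_⟩
    haveI := hp.1
    haveI : Q.1.LiesOver (Q.1.comap (algebraMap Ah Ash)) := ⟨rfl⟩
    obtain ⟨Q', hQ'le, hQ'p, hQ'o⟩ := Ideal.exists_ideal_le_liesOver_of_le Q.1 hle
    rw [le_antisymm hQ'le (Q.2.2 ⟨hQ'p, bot_le⟩ hQ'le)] at hQ'o
    exact hQ'o.over.ge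
  let c : minimalPrimes Ash → minimalPrimes Ah := fun Q => ⟨_, hcomap Q⟩
  have hc : Function.Surjective c := by
    rintro ⟨p, hp⟩
    haveI := hp.isPrime
    obtain ⟨P', hP', hP'p⟩ := Ideal.exists_minimalPrimes_comap_eq (I := (⊥ : Ideal Ash)) (algebraMap Ah Ash) p (by
      rw [← RingHom.ker_eq_comap_bot, (RingHom.injective_iff_ker_eq_bot _).mp (FaithfulSMul.algebraMap_injective Ah Ash)]
      exact hp)
    exact ⟨⟨P', hP'⟩, Subtype.ext hP'p⟩
  haveI : Finite (minimalPrimes Ah) := Finite.of_surjective c hc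
  rw [ENat.card_eq_coe_natCard, ENat.card_eq_coe_natCard, Nat.cast_inj]
  refine ⟨fun hext => Nat.card_congr (Equiv.ofBijective c ⟨fun Q Q' h => Subtype.ext ?_, hc⟩), fun hcard Q hQ => ?_⟩
  · rw [hext Q.1 Q.2, hext Q'.1 Q'.2, show Q.1.comap (algebraMap Ah Ash) = Q'.1.comap (algebraMap Ah Ash) from
      congrArg Subtype.val h]
  have hinj := ((Nat.bijective_iff_surjective_and_card c).mpr ⟨hc, hcard⟩).1
  let q := Q.comap (algebraMap Ah Ash)
  have hq : q ∈ minimalPrimes Ah := hcomap ⟨Q, hQ⟩
  haveI := hQ.isPrime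
  haveI : IsLocalRing (Ah ⧸ q) := H9Hens.isLocalRing_quotient hq.isPrime.ne_top
  haveI : IsLocalRing (Ash ⧸ q.map (algebraMap Ah Ash)) := H9Hens.isLocalRing_quotient (ne_top_of_le_ne_top
    hQ.isPrime.ne_top Ideal.map_comap_le)
  haveI := H9Hens.isLocalHom_quotient (S := Ash) q
  haveI := H9Hens.isStrictHenselization_quotient (S := Ash) q
  haveI : IsReduced (Ah ⧸ q) := by haveI := hq.isPrime; infer_instance
  have hred : IsReduced (Ash ⧸ q.map (algebraMap Ah Ash)) :=
    (Groth.Agent.S2747.result (Ah ⧸ q) (Ash ⧸ q.map (algebraMap Ah Ash))).mpr inferInstance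
  refine le_antisymm ?_ Ideal.map_comap_le
  rw [← ((Ideal.isRadical_iff_quotient_reduced _).mpr hred).radical, ← Ideal.sInf_minimalPrimes]
  refine le_sInf fun P hP => ?_
  haveI := hP.isPrime
  obtain ⟨P₀, hP₀, hP₀le⟩ := Ideal.exists_minimalPrimes_le (bot_le : (⊥ : Ideal Ash) ≤ P)
  have hP₀q : P₀.comap (algebraMap Ah Ash) = q := by
    have h1 : q ≤ P.comap (algebraMap Ah Ash) := Ideal.map_le_iff_le_comap.mp hP.1.2
    haveI := hP₀.isPrime
    haveI := hq.isPrime
    haveI : P.LiesOver (P.comap (algebraMap Ah Ash)) := ⟨rfl⟩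
    obtain ⟨P', hP'le, hP'p, hP'o⟩ := Ideal.exists_ideal_le_liesOver_of_le P h1
    have hPP : P' = P := le_antisymm hP'le
      (hP.2 ⟨hP'p, Ideal.map_le_iff_le_comap.mpr hP'o.over.le⟩ hP'le)
    have hPq : P.comap (algebraMap Ah Ash) = q := by rw [← hPP]; exact hP'o.over.symm
    exact le_antisymm ((Ideal.comap_mono hP₀le).trans hPq.le)
      (hq.2 (hcomap ⟨P₀, hP₀⟩).1 ((Ideal.comap_mono hP₀le).trans hPq.le))
  have : (⟨P₀, hP₀⟩ : minimalPrimes Ash) = ⟨Q, hQ⟩ := hinj (Subtype.ext hP₀q)
  rwa [show P₀ = Q from congrArg Subtype.val this] at hP₀le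

end Groth.Agent.H9SInter
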