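import Groth.Agent.H9SInter.Core

/-!
# The largest simple extension inside a subfield
-/

set_option autoImplicit false
set_option linter.style.haveILetI false

universe u

open IsLocalRing Polynomial

noncomputable section

namespace Groth.Agent.H9SInter

variable {R S : Type u} [CommRing R] [HenselianLocalRing R] [CommRing S] [HenselianLocalRing S]
  [Algebra R S] [IsLocalHom (algebraMap R S)]

/-- A finite local unramified subalgebra is a stage. -/
theorem exists_stage_of_subalgebra (T : Subalgebra R S) [Module.Finite R T] [IsLocalRing T]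
    [IsLocalHom T.val.toRingHom] [Algebra.FormallyUnramified R T] :
    ∃ (u : S) (g : R[X]), Stage u g ∧ Simple R u ∧ Algebra.adjoin R {u} = T := by
  haveI : IsLocalHom (algebraMap R T) := isLocalHom_algebraMap
  obtain ⟨θ, hθ⟩ := Field.exists_primitive_element (ResidueField R) (ResidueField T)
  obtain ⟨w, rfl⟩ := residue_surjective θ
  have hw : Algebra.adjoin (ResidueField R) {residue T w} = ⊤ := by
    rw [← IntermediateField.adjoin_simple_toSubalgebra_of_isAlgebraic (Algebra.IsAlgebraic.isAlgebraic _), hθ,
      IntermediateField.top_toSubalgebra]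
  obtain ⟨g, hg, hgres, hroot, htop⟩ := exists_relation w hw
  have hsep : (g.map (residue R)).Separable := hgres ▸ Algebra.IsSeparable.isSeparable _ _
  have hroot' : aeval (w : S) g = 0 := by rw [← Polynomial.aeval_subalgebra_coe, hroot]; rfl
  have hu : IsUnit (aeval (w : S) (derivative g)) := by
    rw [← Polynomial.aeval_subalgebra_coe]
    refine (IsLocalRing.notMem_maximalIdeal.mp fun hmem => ?_ : IsUnit (aeval w (derivative g))).map T.val
    have h2 : residue T (aeval w (derivative g)) = 0 := (residue_eq_zero_iff _).mpr hmem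
    rw [residue_aeval, ← derivative_map] at h2
    exact hsep.aeval_derivative_ne_zero (x := residue T w) (hgres ▸ minpoly.aeval _ _) h2
  refine ⟨w, g, ⟨hg, hgres ▸ minpoly.irreducible (.of_finite _ _), hsep, hroot'⟩, ⟨g, hg, hroot', hu⟩, ?_⟩
  have h1 := congrArg (Subalgebra.map T.val) htop
  rwa [AlgHom.map_adjoin, Set.image_singleton, Algebra.map_top, Subalgebra.range_val] at h1

/-- Residual minimal polynomials do not depend on the ambient local ring. -/
theorem minpoly_residue_map {T T' : Type u} [CommRing T] [IsLocalRing T] [Algebra R T] [IsLocalHom (algebraMap R T)]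
    [Algebra.IsIntegral R T] [CommRing T'] [IsLocalRing T'] [Algebra R T'] [IsLocalHom (algebraMap R T')]
    (α : T →ₐ[R] T') (t : T) :
    minpoly (ResidueField R) (residue T' (α t)) = minpoly (ResidueField R) (residue T t) := by
  haveI := isLocalHom_of_isIntegral α
  let φ : ResidueField T →ₐ[ResidueField R] ResidueField T' :=
    { ResidueField.map α.toRingHom with
      commutes' := fun a => by
        obtain ⟨a, rfl⟩ := residue_surjective a
        exact congrArg (residue T') (α.commutes a) }
  exact (minpoly.algHom_eq φ φ.toRingHom.injective (residue T t))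

section

variable {Ω : Type u} [Field Ω] [Algebra R Ω] (φ : S →ₐ[R] Ω)

/-- Residual degrees of simple elements with values in a subfield are bounded. -/
theorem degree_bound {L : Type u} [Field L] [Algebra R L] (ι : L →ₐ[R] Ω) [IsLocalRing (integralClosure R L)]
    [IsLocalHom (algebraMap R (integralClosure R L))]
    [FiniteDimensional (ResidueField R) (separableClosure (ResidueField R) (ResidueField (integralClosure R L)))]
    {w : S} (hw : Simple R w) (hmem : φ w ∈ Set.range ι) :
    (minpoly (ResidueField R) (residue S w)).natDegree ≤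
      Module.finrank (ResidueField R) (separableClosure (ResidueField R) (ResidueField (integralClosure R L))) := by
  obtain ⟨hfin, hl, hloc, hunr⟩ := adjoin_facts (Set.finite_singleton w) (fun x hx => hx ▸ hw)
  haveI := hfin; haveI := hl; haveI := hloc; haveI := hunr
  let T := Algebra.adjoin R ({w} : Set S)
  haveI : IsLocalHom (algebraMap R T) := isLocalHom_algebraMap
  have hrange : T ≤ ι.range.comap φ := Algebra.adjoin_le fun x hx => by
    rw [Set.mem_singleton_iff.mp hx]
    obtain ⟨y, hy⟩ := hmem
    exact ⟨y, hy⟩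
  let e := AlgEquiv.ofInjective ι ι.toRingHom.injective
  let α0 : T →ₐ[R] L := e.symm.toAlgHom.comp ((φ.comp T.val).codRestrict ι.range fun t => hrange t.2)
  let α : T →ₐ[R] integralClosure R L := α0.codRestrict _ fun t => (IsIntegral.of_finite R t).map α0
  let t : T := ⟨w, Algebra.subset_adjoin rfl⟩
  rw [show residue S w = residue S (T.val t) from rfl, minpoly_residue_map T.val t, ← minpoly_residue_map α t]
  let x := residue (integralClosure R L) (α t)
  have hsep : IsSeparable (ResidueField R) x := by
    rw [IsSeparable, minpoly_residue_map α t]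
    exact Algebra.IsSeparable.isSeparable _ _
  let x' : separableClosure (ResidueField R) (ResidueField (integralClosure R L)) :=
    ⟨x, mem_separableClosure_iff.mpr hsep⟩
  rw [show minpoly (ResidueField R) x = minpoly (ResidueField R) x' from
    minpoly.algHom_eq (separableClosure (ResidueField R) (ResidueField (integralClosure R L))).val
      Subtype.val_injective x']
  exact minpoly.natDegree_le x'

/-- A simple element generating the largest simple extension with values in a subfield. -/
theorem Strict.exists_maximal (h : Strict R S) {L : Type u} [Field L] [Algebra R L] (ι : L →ₐ[R] Ω) {n : ℕ}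
    (hn : ∀ w, Simple R w → φ w ∈ Set.range ι → (minpoly (ResidueField R) (residue S w)).natDegree ≤ n) :
    ∃ v : S, Simple R v ∧ φ v ∈ Set.range ι ∧ ∀ w, Simple (Algebra.adjoin R ({v} : Set S)) w →
      φ w ∈ Set.range ι → w ∈ Algebra.adjoin R ({v} : Set S) := by
  let N : Set ℕ := {d | ∃ v, Simple R v ∧ φ v ∈ Set.range ι ∧ d = (minpoly (ResidueField R) (residue S v)).natDegree}
  have hne : N.Nonempty := ⟨_, algebraMap R S 0, simple_algebraMap 0, ⟨0, by simp⟩, rfl⟩
  have hb : BddAbove N := ⟨n, by rintro d ⟨v, hv, hvι, rfl⟩; exact hn v hv hvι⟩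
  obtain ⟨v, hv, hvι, hmax⟩ := Nat.sSup_mem hne hb
  refine ⟨v, hv, hvι, fun w hw hwι => ?_⟩
  let U := Algebra.adjoin R ({v} : Set S)
  obtain ⟨hH, hUS, hint, hU⟩ := h.adjoin (W := {v}) fun x hx => hx ▸ hv
  haveI := hH; haveI := hUS; haveI := hint
  obtain ⟨hUf, -, -, hUu⟩ := adjoin_facts (Set.finite_singleton v) (fun x hx => hx ▸ hv)
  haveI := hUf; haveI := hUu
  obtain ⟨hTf, hTl, hTloc, hTu⟩ := adjoin_facts (R := U) (Set.finite_singleton w) (fun x hx => hx ▸ hw)
  haveI := hTf; haveI := hTl; haveI := hTloc; haveI := hTu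
  let T := Algebra.adjoin U ({w} : Set S)
  haveI : Module.Finite R T := Module.Finite.trans U T
  haveI : Algebra.FormallyUnramified R T := Algebra.FormallyUnramified.comp R U T
  haveI : Module.Finite R (T.restrictScalars R) := ‹Module.Finite R T›
  haveI : IsLocalRing (T.restrictScalars R) := hTl
  haveI : IsLocalHom (T.restrictScalars R).val.toRingHom := ⟨fun x hx => hTloc.map_nonunit x hx⟩
  haveI : Algebra.FormallyUnramified R (T.restrictScalars R) := ‹Algebra.FormallyUnramified R T›
  obtain ⟨u, g, hs, hu, hadj⟩ := exists_stage_of_subalgebra (T.restrictScalars R)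
  have hUT : ∀ x ∈ U, x ∈ Algebra.adjoin R ({u} : Set S) := fun x hx => by
    rw [hadj]; exact T.algebraMap_mem ⟨x, hx⟩
  have hwT : w ∈ Algebra.adjoin R ({u} : Set S) := by rw [hadj]; exact (Algebra.subset_adjoin rfl : w ∈ T)
  have huT : u ∈ T := by
    have : u ∈ T.restrictScalars R := by rw [← hadj]; exact Algebra.subset_adjoin rfl
    exact this
  have huι : φ u ∈ Set.range ι := by
    suffices hTι : ∀ t ∈ T, φ t ∈ ι.range by
      obtain ⟨y, hy⟩ := hTι u huT
      exact ⟨y, hy⟩
    intro t ht
    induction ht using Algebra.adjoin_induction with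
    | mem x hx =>
      rw [Set.mem_singleton_iff.mp hx]
      obtain ⟨y, hy⟩ := hwι
      exact ⟨y, hy⟩
    | algebraMap x =>
      have : U ≤ ι.range.comap φ := Algebra.adjoin_le fun x hx => by
        rw [Set.mem_singleton_iff.mp hx]
        obtain ⟨y, hy⟩ := hvι
        exact ⟨y, hy⟩
      exact this x.2
    | add a b _ _ iha ihb => rw [map_add]; exact add_mem iha ihb
    | mul a b _ _ iha ihb => rw [map_mul]; exact mul_mem iha ihb
  -- the residual degrees agree
  let θ := residue S v
  let η := residue S u
  have hθint : IsIntegral (ResidueField R) η := by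
    haveI := h.sepClosure.separable
    exact Algebra.IsIntegral.isIntegral _
  have hle : IntermediateField.adjoin (ResidueField R) {θ} ≤ IntermediateField.adjoin (ResidueField R) {η} := by
    rw [IntermediateField.adjoin_simple_le_iff]
    obtain ⟨p, -, hp⟩ := hs.exists_repr (hUT v (Algebra.subset_adjoin rfl))
    show residue S v ∈ _
    rw [← hp, residue_aeval, ← IntermediateField.mem_toSubalgebra,
      IntermediateField.adjoin_simple_toSubalgebra_of_isAlgebraic hθint.isAlgebraic]
    exact Polynomial.aeval_mem_adjoin_singleton _ _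
  haveI := IntermediateField.adjoin.finiteDimensional hθint
  have heq : IntermediateField.adjoin (ResidueField R) {θ} = IntermediateField.adjoin (ResidueField R) {η} := by
    refine IntermediateField.eq_of_le_of_finrank_le hle ?_
    have hθ' : IsIntegral (ResidueField R) θ := by
      haveI := h.sepClosure.separable
      exact Algebra.IsIntegral.isIntegral _
    rw [IntermediateField.adjoin.finrank hθint, IntermediateField.adjoin.finrank hθ']
    exact (le_csSup hb ⟨u, hu, huι, rfl⟩).trans hmax.le
  have hmemU : u ∈ U := by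
    have hu' : Simple U u := hu.tower
    obtain ⟨u', g', hs', hadj', -⟩ := H9SInter.exists_stage (R := U) (Set.finite_singleton u) (fun x hx => hx ▸ hu')
    have hres : residue S u ∈ Set.range (algebraMap (ResidueField U) (ResidueField S)) := by
      have h1 : η ∈ IntermediateField.adjoin (ResidueField R) {θ} := by
        rw [heq]; exact IntermediateField.mem_adjoin_simple_self _ _
      rw [← IntermediateField.mem_toSubalgebra, IntermediateField.adjoin_simple_toSubalgebra_of_isAlgebraic
        (IntermediateField.isAlgebraic_iff.mp (Algebra.IsAlgebraic.isAlgebraic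
          (⟨θ, hle (IntermediateField.mem_adjoin_simple_self _ _)⟩ :
            IntermediateField.adjoin (ResidueField R) {η}))), Algebra.adjoin_singleton_eq_range_aeval] at h1
      obtain ⟨p, hp⟩ := h1
      obtain ⟨q, hq⟩ := Polynomial.map_surjective (residue R) residue_surjective p
      refine ⟨residue U (aeval (⟨v, Algebra.subset_adjoin rfl⟩ : U) q), ?_⟩
      show residue S ((aeval (⟨v, Algebra.subset_adjoin rfl⟩ : U) q : U) : S) = η
      rw [Polynomial.aeval_subalgebra_coe, residue_aeval, hq]
      exact hp
    obtain ⟨c, hc⟩ := hres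
    obtain ⟨c', rfl⟩ := residue_surjective c
    have hu'mem : u' ∈ Algebra.adjoin U ({u} : Set S) := hadj' ▸ Algebra.subset_adjoin rfl
    have hres' : residue S u' ∈ (algebraMap (ResidueField U) (ResidueField S)).range := by
      clear hadj' hs'
      induction hu'mem using Algebra.adjoin_induction with
      | mem x hx => rw [Set.mem_singleton_iff.mp hx]; exact ⟨residue U c', hc⟩
      | algebraMap x => exact ⟨residue U x, rfl⟩
      | add a b _ _ iha ihb => rw [map_add]; exact add_mem iha ihb
      | mul a b _ _ iha ihb => rw [map_mul]; exact mul_mem iha ihb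
    obtain ⟨d, hd⟩ := hres'
    have hdeg : g'.natDegree = 1 := by
      rw [← hs'.monic.natDegree_map (residue U), ← hs'.residue_root, ← hd, minpoly.eq_X_sub_C, natDegree_X_sub_C]
    obtain ⟨p, hp, hpu⟩ := hs'.exists_repr (hadj' ▸ Algebra.subset_adjoin rfl : u ∈ Algebra.adjoin U {u'})
    rw [← hpu, eq_C_of_natDegree_eq_zero (show p.natDegree = 0 by omega), aeval_C]
    exact (p.coeff 0).2
  exact Algebra.adjoin_le (S := U) (Set.singleton_subset_iff.mpr hmemU) hwT

end

/-- The intersection of a subfield with a strict henselization, and what it sees of the kernel. -/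
theorem Strict.exists_generated (h : Strict R S) {Ω : Type u} [Field Ω] [Algebra R Ω] (φ : S →ₐ[R] Ω)
    {L : Type u} [Field L] [Algebra R L] (ι : L →ₐ[R] Ω) {n : ℕ}
    (hn : ∀ w, Simple R w → φ w ∈ Set.range ι → (minpoly (ResidueField R) (residue S w)).natDegree ≤ n) :
    ∃ v : S, Simple R v ∧ φ v ∈ Set.range ι ∧
      (∀ s, φ s ∈ Set.range ι → ∃ e ∈ Algebra.adjoin R ({v} : Set S), φ e = φ s) ∧
      (∀ a b z, φ b ≠ 0 → ι z * φ b = φ a → ∃ e ∈ Algebra.adjoin R ({v} : Set S),
        ∃ e' ∈ Algebra.adjoin R ({v} : Set S), φ e' ≠ 0 ∧ ι z * φ e' = φ e) ∧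
      RingHom.ker φ.toRingHom = ((RingHom.ker φ.toRingHom).comap
        (algebraMap (Algebra.adjoin R ({v} : Set S)) S)).map (algebraMap (Algebra.adjoin R ({v} : Set S)) S) := by
  obtain ⟨v, hv, hvι, hcl⟩ := h.exists_maximal φ ι hn
  refine ⟨v, hv, hvι, ?_⟩
  let U := Algebra.adjoin R ({v} : Set S)
  obtain ⟨hH, hUS, -, hU⟩ := h.adjoin (W := {v}) fun x hx => hx ▸ hv
  haveI := hH; haveI := hUS
  letI : Algebra U Ω := (φ.toRingHom.comp (algebraMap U S)).toAlgebra
  let φU : S →ₐ[U] Ω := { φ.toRingHom with commutes' := fun _ => rfl }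
  have hrange : U ≤ ι.range.comap φ := Algebra.adjoin_le fun x hx => by
    rw [Set.mem_singleton_iff.mp hx]
    obtain ⟨y, hy⟩ := hvι
    exact ⟨y, hy⟩
  let e := AlgEquiv.ofInjective ι ι.toRingHom.injective
  let ψ : U →ₐ[R] L := e.symm.toAlgHom.comp ((φ.comp U.val).codRestrict ι.range fun t => hrange t.2)
  have hψ : ∀ t : U, ι (ψ t) = φ t := fun t => congrArg Subtype.val (e.apply_symm_apply _)
  letI : Algebra U L := ψ.toRingHom.toAlgebra
  let ιU : L →ₐ[U] Ω := { ι.toRingHom with commutes' := hψ }
  have hc : Closed φU ιU := fun w hw hwι => ⟨⟨w, hcl w hw hwι⟩, rfl⟩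
  have hφker : RingHom.ker (φU.toRingHom.comp (algebraMap U S)) =
      (RingHom.ker φ.toRingHom).comap (algebraMap U S) := rfl
  refine ⟨fun s hs => ?_, fun a b z hb hab => ?_, le_antisymm (fun s hs => ?_) Ideal.map_comap_le⟩
  · obtain ⟨z, hz⟩ := hs
    obtain ⟨r, hr, -⟩ := hU.exists_of_range (φ := φU) (ι := ιU) hc (s := s) (z := z) hz.symm
    exact ⟨r, r.2, by rw [← hψ r, ← hz]; exact congrArg ι hr⟩
  · obtain ⟨r, r', hr', hrr⟩ := hU.exists_fraction (φ := φU) (ι := ιU) hc hb hab
    refine ⟨r, r.2, r', r'.2, ?_, ?_⟩
    · rw [← hψ]; exact (map_ne_zero_iff _ ι.toRingHom.injective).mpr hr'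
    · rw [← hψ, ← hψ, ← map_mul]; exact congrArg ι hrr
  · obtain ⟨r, hr, hsr⟩ := hU.exists_of_range (φ := φU) (ι := ιU) hc (s := s) (z := 0)
      ((show φ s = 0 from hs).trans (map_zero ι).symm)
    rw [hφker] at hsr
    have : algebraMap U S r ∈ ((RingHom.ker φ.toRingHom).comap (algebraMap U S)).map (algebraMap U S) := by
      refine Ideal.mem_map_of_mem _ ?_
      show φ (r : S) = 0
      rw [← hψ r, show ψ r = 0 from hr, map_zero]
    simpa using add_mem hsr this

end Groth.Agent.H9SInter
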