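import Groth.Agent.H9SInter.Closed
import Groth.Prelude.Def_EssEt
import Mathlib.RingTheory.Smooth.Fiber

/-!
# Stages are finite etale
-/

set_option autoImplicit false
set_option linter.style.haveILetI false

universe u

open IsLocalRing Polynomial

noncomputable section

namespace Groth.Agent.H9SInter

variable {R S : Type u} [CommRing R] [HenselianLocalRing R] [CommRing S] [HenselianLocalRing S]
  [Algebra R S] [IsLocalHom (algebraMap R S)]

/-- The algebra of a stage is finite etale. -/
theorem Strict.etale_adjoin (h : Strict R S) {W : Set S} (hfin : W.Finite) (hW : ∀ w ∈ W, Simple R w) :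
    Algebra.Etale R (Algebra.adjoin R W) := by
  obtain ⟨hf, -, -, hunr⟩ := adjoin_facts hfin hW
  haveI := hf; haveI := hunr
  obtain ⟨u, g, hs, hadj, -⟩ := H9SInter.exists_stage hfin hW
  let α : AdjoinRoot g →ₐ[R] S := AdjoinRoot.liftAlgHom g (Algebra.ofId R S) u (by
    show eval₂ (algebraMap R S) u g = 0
    exact hs.root)
  have hα : ∀ p : R[X], α (AdjoinRoot.mk g p) = aeval u p := fun p => AdjoinRoot.liftAlgHom_mk _ _ _ _ _
  have hinj : Function.Injective α := by
    rw [injective_iff_map_eq_zero]
    intro x hx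
    obtain ⟨p, rfl⟩ := AdjoinRoot.mk_surjective x
    rw [hα] at hx
    rw [AdjoinRoot.mk_eq_zero, ← modByMonic_eq_zero_iff_dvd hs.monic]
    exact h.eq_zero_of_aeval hs
      (natDegree_modByMonic_lt p hs.monic fun h1 => by simpa [h1] using hs.natDegree_pos)
      (by rw [aeval_modByMonic_eq_self_of_root hs.root, hx])
  have hrange : α.range = Algebra.adjoin R W := by
    rw [← hadj, Algebra.adjoin_singleton_eq_range_aeval]
    refine le_antisymm ?_ ?_
    · rintro _ ⟨x, rfl⟩
      obtain ⟨p, rfl⟩ := AdjoinRoot.mk_surjective x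
      exact ⟨p, (hα p).symm⟩
    · rintro _ ⟨p, rfl⟩
      exact ⟨AdjoinRoot.mk g p, hα p⟩
  let e : AdjoinRoot g ≃ₐ[R] Algebra.adjoin R W :=
    (AlgEquiv.ofInjective α hinj).trans (Subalgebra.equivOfEq _ _ hrange)
  haveI := hs.monic.free_adjoinRoot
  haveI : Module.Flat R (Algebra.adjoin R W) := Module.Flat.of_linearEquiv e.toLinearEquiv.symm
  haveI : Algebra.FinitePresentation R (AdjoinRoot g) :=
    Algebra.FinitePresentation.quotient (R := R) (A := R[X]) (Submodule.fg_span_singleton g)
  haveI : Algebra.FinitePresentation R (Algebra.adjoin R W) := Algebra.FinitePresentation.equiv e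
  exact Algebra.Etale.of_formallyUnramified_of_flat

/-- The algebra of a stage is essentially etale. -/
theorem Strict.isEssentiallyEtale_adjoin (h : Strict R S) {W : Set S} (hfin : W.Finite)
    (hW : ∀ w ∈ W, Simple R w) :
    ∃ _ : IsLocalRing (Algebra.adjoin R W), EGA4loc.IsEssentiallyEtale R (Algebra.adjoin R W) := by
  obtain ⟨hint, hH, hRU, -⟩ := adjoin_henselian hW
  haveI := hH; haveI := hint
  let U := Algebra.adjoin R W
  let e : U ≃ₐ[U] Localization.AtPrime (maximalIdeal U) :=
    IsLocalization.atUnits U (maximalIdeal U).primeCompl fun x hx => not_not.mp hx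
  exact ⟨inferInstance, U, inferInstance, inferInstance, maximalIdeal U, inferInstance, h.etale_adjoin hfin hW,
    ((local_hom_TFAE (algebraMap R U)).out 0 4).mp hRU, ⟨e.restrictScalars R⟩⟩

omit [HenselianLocalRing R] [HenselianLocalRing S] [IsLocalHom (algebraMap R S)] in
/-- Being extended from a subring persists for larger subrings. -/
theorem map_comap_mono {U E : Subalgebra R S} (hle : U ≤ E) {Q : Ideal S}
    (hQ : Q = (Q.comap (algebraMap U S)).map (algebraMap U S)) :
    Q = (Q.comap (algebraMap E S)).map (algebraMap E S) := by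
  refine le_antisymm ?_ Ideal.map_comap_le
  conv_lhs => rw [hQ, show algebraMap U S = (algebraMap E S).comp (Subalgebra.inclusion hle).toRingHom from rfl,
    ← Ideal.map_map]
  refine Ideal.map_mono (Ideal.map_le_iff_le_comap.mpr ?_)
  exact fun x hx => hx

end Groth.Agent.H9SInter
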