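import Groth.Agent.H9SInter.Criterion
import Groth.Agent.H9SInter.Stages

/-!
# Residual embeddings and extended minimal primes over a domain
-/

set_option autoImplicit false
set_option linter.style.haveILetI false

universe u

open IsLocalRing Polynomial

noncomputable section

namespace Groth.Agent.H9SInter

/-- All embeddings of a finite separable extension land in a subextension iff there are enough of them. -/
theorem card_algHom_eq_iff {k F M N : Type u} [Field k] [Field F] [Field M] [Field N] [Algebra k F] [Algebra k M]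
    [Algebra k N] [FiniteDimensional k N] [Algebra.IsSeparable k N] [IsSepClosed M] (ψ : F →ₐ[k] M) :
    Nat.card (N →ₐ[k] F) = Module.finrank k N ↔ ∀ (σ : N →ₐ[k] M) (x : N), σ x ∈ Set.range ψ := by
  classical
  have hM : Nat.card (N →ₐ[k] M) = Module.finrank k N := AlgHom.natCard_of_splits k N M fun x =>
    IsSepClosed.splits_codomain _ (Algebra.IsSeparable.isSeparable k x)
  let c : (N →ₐ[k] F) → (N →ₐ[k] M) := fun σ => ψ.comp σ
  have hc : Function.Injective c := fun σ τ h => AlgHom.ext fun x => ψ.toRingHom.injective (DFunLike.congr_fun h x)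
  haveI : Finite (N →ₐ[k] M) := inferInstance
  rw [← hM]
  refine ⟨fun h σ x => ?_, fun h => Nat.card_congr (Equiv.ofBijective c ⟨hc, fun σ => ?_⟩)⟩
  · haveI : Finite (N →ₐ[k] F) := Finite.of_injective c hc
    obtain ⟨τ, hτ⟩ := ((Nat.bijective_iff_injective_and_card c).mpr ⟨hc, h⟩).2 σ
    exact ⟨τ x, DFunLike.congr_fun hτ x⟩
  · let e := AlgEquiv.ofInjective ψ ψ.toRingHom.injective
    let σ' : N →ₐ[k] ψ.range := σ.codRestrict ψ.range fun x => h σ x
    exact ⟨e.symm.toAlgHom.comp σ', AlgHom.ext fun x => congrArg Subtype.val (e.apply_symm_apply (σ' x))⟩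

variable {A S : Type u} [CommRing A] [HenselianLocalRing A] [CommRing S] [HenselianLocalRing S]
  [Algebra A S] [IsLocalHom (algebraMap A S)] {L : Type u} [Field L] [Algebra A L]

omit [HenselianLocalRing S] [IsLocalHom (algebraMap A S)] in
/-- The residual minimal polynomial of a simple element with value in a field over the base. -/
theorem exists_same_minpoly [HenselianLocalRing S] [IsLocalHom (algebraMap A S)]
    [IsLocalRing (integralClosure A L)] [IsLocalHom (algebraMap A (integralClosure A L))]
    {Ω : Type u} [Field Ω] [Algebra A Ω] (φ : S →ₐ[A] Ω) (ι : L →ₐ[A] Ω)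
    {w : S} (hw : Simple A w) (hmem : φ w ∈ Set.range ι) :
    ∃ x : ResidueField (integralClosure A L), IsSeparable (ResidueField A) x ∧
      minpoly (ResidueField A) x = minpoly (ResidueField A) (residue S w) := by
  obtain ⟨hfin, hl, hloc, hunr⟩ := adjoin_facts (Set.finite_singleton w) (fun x hx => hx ▸ hw)
  haveI := hfin; haveI := hl; haveI := hloc; haveI := hunr
  let T := Algebra.adjoin A ({w} : Set S)
  haveI : IsLocalHom (algebraMap A T) := isLocalHom_algebraMap
  have hrange : T ≤ ι.range.comap φ := Algebra.adjoin_le fun x hx => by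
    rw [Set.mem_singleton_iff.mp hx]
    obtain ⟨y, hy⟩ := hmem
    exact ⟨y, hy⟩
  let e := AlgEquiv.ofInjective ι ι.toRingHom.injective
  let α0 : T →ₐ[A] L := e.symm.toAlgHom.comp ((φ.comp T.val).codRestrict ι.range fun t => hrange t.2)
  let α : T →ₐ[A] integralClosure A L := α0.codRestrict _ fun t => (IsIntegral.of_finite A t).map α0
  let t : T := ⟨w, Algebra.subset_adjoin rfl⟩
  refine ⟨residue _ (α t), ?_, ?_⟩
  · rw [IsSeparable, minpoly_residue_map α t]
    exact Algebra.IsSeparable.isSeparable _ _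
  · rw [show residue S w = residue S (T.val t) from rfl, minpoly_residue_map T.val t, minpoly_residue_map α t]

/-- Every conjugate of a residual element of the normalisation is realised at a minimal prime. -/
theorem Strict.exists_minimal_of_root (h : Strict A S) [IsDomain A] [IsFractionRing A L] [Module.Flat A S]
    [IsLocalRing (integralClosure A L)] [IsLocalHom (algebraMap A (integralClosure A L))]
    [HenselianLocalRing (integralClosure A L)]
    {x : ResidueField (integralClosure A L)} (hx : IsSeparable (ResidueField A) x) {η : ResidueField S}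
    (hη : aeval η (minpoly (ResidueField A) x) = 0) :
    ∃ (w : S) (Q : Ideal S) (a b : A), Simple A w ∧ residue S w = η ∧ Q ∈ minimalPrimes S ∧
      algebraMap A S b ∉ Q ∧ w * algebraMap A S b - algebraMap A S a ∈ Q := by
  obtain ⟨y, g, hy, -, hg⟩ := exists_simple_lift (R := A) (S := integralClosure A L) hx
  have hmin : minpoly (ResidueField A) x = g.map (residue A) := hy ▸ hg.residue_root
  -- the root in `S`
  obtain ⟨a₀, rfl⟩ := residue_surjective η
  have hroot0 : eval a₀ (g.map (algebraMap A S)) ∈ maximalIdeal S := by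
    rw [eval_map_algebraMap, ← residue_eq_zero_iff, residue_aeval, ← hmin, hη]
  have hder : ∀ a : S, residue S a = residue S a₀ → IsUnit (aeval a (derivative g)) := fun a ha => by
    refine IsLocalRing.notMem_maximalIdeal.mp fun hm => ?_
    rw [← residue_eq_zero_iff, residue_aeval, ← derivative_map, ha] at hm
    exact hg.separable.aeval_derivative_ne_zero (hmin ▸ hη) hm
  obtain ⟨w, hw, hwa⟩ := HenselianLocalRing.is_henselian (g.map (algebraMap A S)) (hg.monic.map _) a₀ hroot0
    (by rw [derivative_map, eval_map_algebraMap]; exact hder a₀ rfl)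
  have hres : residue S w = residue S a₀ := by rwa [← sub_eq_zero, ← map_sub, residue_eq_zero_iff]
  have hw0 : aeval w g = 0 := by rw [← eval_map_algebraMap]; exact hw
  have hs : Stage w g := ⟨hg.monic, hg.irreducible, hg.separable, hw0⟩
  -- the algebra of the equation, inside `S` and mapping to `L`
  have hy0 : aeval (y : L) g = 0 := by rw [← Polynomial.aeval_subalgebra_coe, hg.root]; rfl
  let α : AdjoinRoot g →ₐ[A] S := AdjoinRoot.liftAlgHom g (Algebra.ofId A S) w (show eval₂ (algebraMap A S) w g = 0 from hw0)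
  let β : AdjoinRoot g →ₐ[A] L :=
    AdjoinRoot.liftAlgHom g (Algebra.ofId A L) (y : L) (show eval₂ (algebraMap A L) (y : L) g = 0 from hy0)
  have hα : ∀ p : A[X], α (AdjoinRoot.mk g p) = aeval w p := fun p => AdjoinRoot.liftAlgHom_mk _ _ _ _ _
  have hβ : ∀ p : A[X], β (AdjoinRoot.mk g p) = aeval (y : L) p := fun p => AdjoinRoot.liftAlgHom_mk _ _ _ _ _
  have hinj : Function.Injective α := by
    rw [injective_iff_map_eq_zero]
    intro t ht
    obtain ⟨p, rfl⟩ := AdjoinRoot.mk_surjective t
    rw [hα] at ht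
    rw [AdjoinRoot.mk_eq_zero, ← modByMonic_eq_zero_iff_dvd hs.monic]
    exact h.eq_zero_of_aeval hs
      (natDegree_modByMonic_lt p hs.monic fun h1 => by simpa [h1] using hs.natDegree_pos)
      (by rw [aeval_modByMonic_eq_self_of_root hs.root, ht])
  haveI := hs.monic.finite_adjoinRoot
  letI : Algebra (AdjoinRoot g) S := α.toRingHom.toAlgebra
  haveI : IsScalarTower A (AdjoinRoot g) S := IsScalarTower.of_algebraMap_eq fun a => (α.commutes a).symm
  haveI := h.isIntegral
  haveI : Algebra.IsIntegral (AdjoinRoot g) S := Algebra.IsIntegral.tower_top (R := A)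
  let P : Ideal (AdjoinRoot g) := RingHom.ker β.toRingHom
  haveI : P.IsPrime := RingHom.ker_isPrime _
  obtain ⟨Q₀, -, hQ₀, hQ₀P⟩ := Ideal.exists_ideal_over_prime_of_isIntegral P (⊥ : Ideal S) (by
    rw [← RingHom.ker_eq_comap_bot, (RingHom.injective_iff_ker_eq_bot (algebraMap (AdjoinRoot g) S)).mp hinj]
    exact bot_le)
  haveI := hQ₀
  obtain ⟨Q, hQ, hQle⟩ := Ideal.exists_minimalPrimes_le (bot_le : (⊥ : Ideal S) ≤ Q₀)
  haveI := hQ.isPrime
  have hAinj : Function.Injective (algebraMap A L) := IsFractionRing.injective A L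
  have hPA : P.comap (algebraMap A (AdjoinRoot g)) = ⊥ := by
    rw [eq_bot_iff]
    intro a ha
    rw [Ideal.mem_comap, RingHom.mem_ker] at ha
    exact hAinj ((β.commutes a).symm.trans (ha.trans (map_zero _).symm))
  have hQP : Q.comap (algebraMap (AdjoinRoot g) S) = P := by
    have hle : Q.comap (algebraMap (AdjoinRoot g) S) ≤ P := hQ₀P ▸ Ideal.comap_mono hQle
    refine le_antisymm hle ?_
    by_contra hne
    obtain ⟨b, hb, hb'⟩ := SetLike.not_le_iff_exists.mp hne
    have hlt := Ideal.comap_lt_comap_of_integral_mem_sdiff (R := A) hle ⟨hb, hb'⟩ (Algebra.IsIntegral.isIntegral b)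
    exact not_lt_bot (hPA ▸ hlt)
  obtain ⟨⟨a, b⟩, hab⟩ := IsLocalization.surj (nonZeroDivisors A) (y : L)
  refine ⟨w, Q, a, b, ⟨g, hg.monic, hw0, hder w hres⟩, hres, hQ, fun hb => ?_, ?_⟩
  · have h1 : algebraMap A (AdjoinRoot g) b ∈ P := by
      rw [← hQP, Ideal.mem_comap, ← IsScalarTower.algebraMap_apply]
      exact hb
    have h2 : (b : A) ∈ P.comap (algebraMap A (AdjoinRoot g)) := h1
    rw [hPA, Ideal.mem_bot] at h2
    exact nonZeroDivisors.coe_ne_zero b h2
  · have h1 : AdjoinRoot.mk g (X * C (b : A) - C a) ∈ P := by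
      show β _ = 0
      rw [hβ, map_sub, map_mul, aeval_X, aeval_C, aeval_C, hab, sub_self]
    rw [← hQP, Ideal.mem_comap] at h1
    have h2 : algebraMap (AdjoinRoot g) S (AdjoinRoot.mk g (X * C (b : A) - C a)) =
        w * algebraMap A S b - algebraMap A S a := by
      show α _ = _
      rw [hα, map_sub, map_mul, aeval_X, aeval_C, aeval_C]
    rwa [h2] at h1

/-- Minimal primes are extended from `U` iff `U` contains all conjugates of the separable residual elements. -/
theorem Strict.extended_iff_range (h : Strict A S) [IsDomain A] [IsFractionRing A L] [Module.Flat A S]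
    [IsLocalRing (integralClosure A L)] [IsLocalHom (algebraMap A (integralClosure A L))]
    [HenselianLocalRing (integralClosure A L)]
    [FiniteDimensional (ResidueField A) (separableClosure (ResidueField A) (ResidueField (integralClosure A L)))]
    (U : Subalgebra A S) [HenselianLocalRing U] [IsLocalHom (algebraMap U S)] (hU : Strict U S) :
    (∀ Q ∈ minimalPrimes S, Q = Ideal.map (algebraMap U S) (Q.comap (algebraMap U S))) ↔
      ∀ (σ : separableClosure (ResidueField A) (ResidueField (integralClosure A L)) →ₐ[ResidueField A]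
        ResidueField S) (x : separableClosure (ResidueField A) (ResidueField (integralClosure A L))),
        σ x ∈ Set.range (algebraMap (ResidueField U) (ResidueField S)) := by
  let ks := separableClosure (ResidueField A) (ResidueField (integralClosure A L))
  refine ⟨fun hgen σ x => ?_, fun hσ Q hQ => ?_⟩
  · have hx : IsSeparable (ResidueField A) (x : ResidueField (integralClosure A L)) :=
      mem_separableClosure_iff.mp x.2
    have hroot : aeval (σ x) (minpoly (ResidueField A) (x : ResidueField (integralClosure A L))) = 0 := by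
      rw [show minpoly (ResidueField A) (x : ResidueField (integralClosure A L)) = minpoly (ResidueField A) x from
        minpoly.algHom_eq ks.val Subtype.val_injective x, aeval_algHom_apply, minpoly.aeval, map_zero]
    obtain ⟨w, Q, a, b, hw, hwres, hQ, hb, hab⟩ := h.exists_minimal_of_root (L := L) hx hroot
    haveI := hQ.isPrime
    let Ω := FractionRing (S ⧸ Q)
    obtain ⟨φ, hφ⟩ : ∃ φ : S →ₐ[A] Ω, ∀ s, φ s = algebraMap (S ⧸ Q) Ω (Ideal.Quotient.mk Q s) :=
      ⟨(IsScalarTower.toAlgHom A (S ⧸ Q) Ω).comp (Ideal.Quotient.mkₐ A Q), fun _ => rfl⟩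
    have hker : ∀ s, φ s = 0 ↔ s ∈ Q := fun s => by
      rw [hφ, map_eq_zero_iff _ (IsFractionRing.injective (S ⧸ Q) Ω), Ideal.Quotient.eq_zero_iff_mem]
    letI : Algebra U Ω := (φ.toRingHom.comp (algebraMap U S)).toAlgebra
    let φU : S →ₐ[U] Ω := { φ.toRingHom with commutes' := fun _ => rfl }
    have hkU : RingHom.ker φU.toRingHom ≤
        (RingHom.ker (φU.toRingHom.comp (algebraMap U S))).map (algebraMap U S) := by
      intro s hs
      have hsQ : s ∈ Q := (hker s).mp hs
      rw [hgen Q hQ] at hsQ
      refine Ideal.map_mono (fun e he => ?_) hsQ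
      exact (hker _).mpr he
    obtain ⟨t, ht⟩ := hU.mem_range_of_fraction (φ := φU) hkU hw.tower (a := algebraMap A U a)
      (b := algebraMap A U b) (fun h0 => hb ((hker _).mp h0)) (by
        show φ w * φ (algebraMap A S b) = φ (algebraMap A S a)
        rw [← sub_eq_zero, ← map_mul, ← map_sub, hker]
        exact hab)
    exact ⟨residue U t, by rw [← hwres, ← ht]; rfl⟩
  haveI := hQ.isPrime
  let Ω := FractionRing (S ⧸ Q)
  obtain ⟨φ, hφ⟩ : ∃ φ : S →ₐ[A] Ω, ∀ s, φ s = algebraMap (S ⧸ Q) Ω (Ideal.Quotient.mk Q s) :=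
    ⟨(IsScalarTower.toAlgHom A (S ⧸ Q) Ω).comp (Ideal.Quotient.mkₐ A Q), fun _ => rfl⟩
  have hker : RingHom.ker φ.toRingHom = Q := by
    ext s
    rw [RingHom.mem_ker]
    show φ s = 0 ↔ _
    rw [hφ, map_eq_zero_iff _ (IsFractionRing.injective (S ⧸ Q) Ω), Ideal.Quotient.eq_zero_iff_mem]
  have hQA : Q.comap (algebraMap A S) = ⊥ := by
    rw [eq_bot_iff]
    haveI : Q.LiesOver (Q.comap (algebraMap A S)) := ⟨rfl⟩
    obtain ⟨Q', hQ'le, hQ'p, hQ'o⟩ := Ideal.exists_ideal_le_liesOver_of_le Q
      (bot_le : (⊥ : Ideal A) ≤ Q.comap (algebraMap A S))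
    rw [le_antisymm hQ'le (hQ.2 ⟨hQ'p, bot_le⟩ hQ'le)] at hQ'o
    exact hQ'o.over.ge
  have hAinj : Function.Injective (algebraMap A Ω) := by
    rw [injective_iff_map_eq_zero]
    intro a ha
    have : a ∈ Q.comap (algebraMap A S) := by
      rw [Ideal.mem_comap, ← hker]
      exact (φ.commutes a).trans ha
    rwa [hQA] at this
  obtain ⟨ι, -⟩ : ∃ ι : L →ₐ[A] Ω, True := by
    obtain ⟨ι, hι⟩ : ∃ ι : L →+* Ω, ∀ a, ι (algebraMap A L a) = algebraMap A Ω a :=
      ⟨IsFractionRing.lift hAinj, fun a => IsFractionRing.lift_algebraMap hAinj a⟩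
    exact ⟨{ ι with commutes' := hι }, trivial⟩
  obtain ⟨v, hv, hvι, -, -, hgen⟩ := h.exists_generated φ ι
    (n := Module.finrank (ResidueField A) ks) (fun w hw hwι => degree_bound φ ι hw hwι)
  rw [hker] at hgen
  obtain ⟨x, hxs, hxv⟩ := exists_same_minpoly φ ι hv hvι
  let x' : ks := ⟨x, mem_separableClosure_iff.mpr hxs⟩
  have hroot : aeval (residue S v) (minpoly (ResidueField A) x') = 0 := by
    rw [← minpoly.algHom_eq ks.val Subtype.val_injective x', show ks.val x' = x from rfl, hxv, minpoly.aeval]
  haveI := h.sepClosure.sep_closed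
  obtain ⟨σ, hσx⟩ := IntermediateField.exists_algHom_of_splits_of_aeval (F := ResidueField A) (E := ks)
    (K := ResidueField S) (x := x') (y := residue S v)
    (fun s => ⟨Algebra.IsIntegral.isIntegral s, IsSepClosed.splits_codomain _ (Algebra.IsSeparable.isSeparable _ s)⟩)
    hroot
  obtain ⟨t, ht⟩ := mem_range_of_residue hv.tower (hσx ▸ hσ σ x')
  refine map_comap_mono (Algebra.adjoin_le (Set.singleton_subset_iff.mpr ?_)) hgen
  exact ht ▸ t.2

end Groth.Agent.H9SInter
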