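import Groth.Agent.H9SInter.Count
import Groth.Agent.H9Hens.EssEtale

/-!
# Images of essentially etale algebras
-/

set_option autoImplicit false
set_option linter.style.haveILetI false

universe u

open IsLocalRing Polynomial

noncomputable section

namespace Groth.Agent.H9SInter

/-- The image of an essentially etale algebra is generated by a simple element. -/
theorem Strict.exists_adjoin_eq_range {A S E : Type u} [CommRing A] [HenselianLocalRing A] [CommRing S]
    [HenselianLocalRing S] [Algebra A S] [IsLocalHom (algebraMap A S)] (h : Strict A S) [CommRing E]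
    [Algebra A E] (hE : EGA4loc.IsEssentiallyEtale A E) (j : E →ₐ[A] S) :
    ∃ v : S, Simple A v ∧ Algebra.adjoin A ({v} : Set S) = j.range := by
  obtain ⟨C, _, _, q, _, hC, hq, ⟨e⟩⟩ := hE
  haveI := hC
  haveI := h.isIntegral
  let c : C →ₐ[A] S := j.comp (e.symm.toAlgHom.comp (IsScalarTower.toAlgHom A C (Localization.AtPrime q)))
  let T := c.range
  haveI : Algebra.FiniteType A T := Algebra.FiniteType.of_surjective c.rangeRestrict c.rangeRestrict_surjective
  obtain ⟨hint, hTH, hAT, hTS⟩ := h.subalgebra_henselian T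
  haveI := hint; haveI := hTH; haveI := hTS
  haveI : Module.Finite A T := Algebra.IsIntegral.finite
  haveI : IsLocalHom T.val.toRingHom := ⟨fun x hx => hTS.map_nonunit x hx⟩
  haveI : Algebra.FormallyUnramified A T :=
    Algebra.FormallyUnramified.of_surjective c.rangeRestrict c.rangeRestrict_surjective
  obtain ⟨v, g, -, hv, hadj⟩ := exists_stage_of_subalgebra T
  refine ⟨v, hv, hadj.trans (le_antisymm ?_ ?_)⟩
  · rintro _ ⟨x, rfl⟩
    exact ⟨_, rfl⟩
  rintro _ ⟨x, rfl⟩
  obtain ⟨⟨a, s⟩, has⟩ := IsLocalization.surj q.primeCompl (e x)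
  have h1 : j x * c s = c a := by
    have := congrArg (fun z => j (e.symm z)) has
    simp only [map_mul, AlgEquiv.symm_apply_apply] at this
    exact this
  have hu : IsUnit (c.rangeRestrict s) := by
    refine isUnit_of_map_unit T.val.toRingHom _ ?_
    exact ((IsLocalization.map_units (Localization.AtPrime q) s).map e.symm).map j
  obtain ⟨u, hu⟩ := hu
  have h2 : j x = c a * ((↑u⁻¹ : T) : S) := by
    have h3 : ((u : T) : S) * ((↑u⁻¹ : T) : S) = 1 := congrArg Subtype.val u.mul_inv
    rw [hu] at h3
    rw [← h1, mul_assoc, show c s = ((c.rangeRestrict s : T) : S) from rfl, h3, mul_one]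
  show j x ∈ T
  rw [h2]
  exact mul_mem ⟨a, rfl⟩ (↑u⁻¹ : T).2

/-- The residues of a subalgebra given as an image. -/
theorem range_residueField_map {A S E : Type u} [CommRing A] [CommRing S] [IsLocalRing S] [Algebra A S]
    [CommRing E] [IsLocalRing E] [Algebra A E] (j : E →ₐ[A] S) [IsLocalHom j.toRingHom] (U : Subalgebra A S)
    [IsLocalRing U] [IsLocalHom (algebraMap U S)] (hU : U = j.range) :
    Set.range (algebraMap (ResidueField U) (ResidueField S)) = Set.range (ResidueField.map j.toRingHom) := by
  refine Set.Subset.antisymm ?_ ?_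
  · rintro _ ⟨t, rfl⟩
    obtain ⟨⟨t, ht⟩, rfl⟩ := residue_surjective t
    obtain ⟨x, hx⟩ : t ∈ j.range := hU ▸ ht
    exact ⟨residue E x, congrArg (residue S) hx⟩
  · rintro _ ⟨t, rfl⟩
    obtain ⟨x, rfl⟩ := residue_surjective t
    exact ⟨residue U ⟨j x, hU ▸ ⟨x, rfl⟩⟩, rfl⟩

/-- Being extended from `E` is being extended from its image. -/
theorem map_comap_range {A S E : Type u} [CommRing A] [CommRing S] [Algebra A S] [CommRing E] [Algebra A E]
    [Algebra E S] [IsScalarTower A E S] (U : Subalgebra A S) (hU : U = (IsScalarTower.toAlgHom A E S).range)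
    (Q : Ideal S) :
    (Q.comap (algebraMap E S)).map (algebraMap E S) = (Q.comap (algebraMap U S)).map (algebraMap U S) := by
  let π : E →+* U := (algebraMap E S).codRestrict U fun x => hU ▸ ⟨x, rfl⟩
  have hπ : Function.Surjective π := by
    rintro ⟨t, ht⟩
    rw [hU] at ht
    obtain ⟨x, hx⟩ := ht
    exact ⟨x, Subtype.ext hx⟩
  have h : algebraMap E S = (algebraMap U S).comp π := RingHom.ext fun _ => rfl
  rw [h, ← Ideal.comap_comap, ← Ideal.map_map, Ideal.map_comap_of_surjective π hπ]

end Groth.Agent.H9SInter
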