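import Groth.Agent.H9SInter.Intermediate2
import Groth.Agent.H9SInter.Stages

/-!
# Simple elements and components of the normalisation
-/

set_option autoImplicit false
set_option linter.style.haveILetI false

universe u

open IsLocalRing Polynomial

noncomputable section

namespace Groth.Agent.H9SInter

/-- A simple element with residue in the base is in the base. -/
theorem mem_range_of_residue {R S : Type u} [CommRing R] [HenselianLocalRing R] [CommRing S]
    [HenselianLocalRing S] [Algebra R S] [IsLocalHom (algebraMap R S)] {w : S} (hw : Simple R w)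
    (hres : residue S w ∈ Set.range (algebraMap (ResidueField R) (ResidueField S))) :
    w ∈ Set.range (algebraMap R S) := by
  obtain ⟨f, hf, h0, hu⟩ := hw
  obtain ⟨c, hc⟩ := hres
  obtain ⟨r₀, rfl⟩ := residue_surjective c
  have hev : ∀ (p : R[X]) (r : R), residue S (algebraMap R S r) = residue S w →
      residue S (algebraMap R S (eval r p)) = residue S (aeval w p) := fun p r hr => by
    rw [← coe_aeval_eq_eval, ← aeval_algebraMap_apply, residue_aeval, residue_aeval, hr]
  have hc' : residue S (algebraMap R S r₀) = residue S w := hc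
  have hnu : ∀ a : R, algebraMap R S a ∈ maximalIdeal S → a ∈ maximalIdeal R := fun a ha ha' =>
    ha (ha'.map _)
  have hroot : eval r₀ f ∈ maximalIdeal R := hnu _ (by
    rw [← residue_eq_zero_iff, hev f r₀ hc', h0, map_zero])
  have hunit : IsUnit (eval r₀ (derivative f)) := notMem_maximalIdeal.mp fun hm => by
    refine notMem_maximalIdeal.mpr hu ?_
    rw [← residue_eq_zero_iff, ← hev _ r₀ hc', residue_eq_zero_iff]
    exact map_nonunit (algebraMap R S) _ hm
  obtain ⟨r, hr, hrr⟩ := HenselianLocalRing.is_henselian f hf r₀ hroot hunit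
  have hres' : residue S (algebraMap R S r) = residue S w := by
    rw [← hc', ← sub_eq_zero, ← map_sub, ← map_sub, residue_eq_zero_iff]
    exact map_nonunit (algebraMap R S) _ hrr
  refine ⟨r, (root_unique (f := f.map (algebraMap R S)) ?_ ?_ ?_ hres'.symm).symm⟩
  · rw [eval_map_algebraMap, h0]
  · rw [eval_map_algebraMap, aeval_algebraMap_apply, coe_aeval_eq_eval]
    exact (congrArg (algebraMap R S) hr).trans (map_zero _)
  · rwa [derivative_map, eval_map_algebraMap]

/-- An element congruent to the base modulo every extended minimal prime is in the base. -/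
theorem Strict.mem_range_of_forall {R S : Type u} [CommRing R] [HenselianLocalRing R] [CommRing S]
    [HenselianLocalRing S] [Algebra R S] [IsLocalHom (algebraMap R S)] (h : Strict R S) [IsReduced S]
    (hfin : (minimalPrimes S).Finite) {x : S}
    (hx : ∀ Q ∈ minimalPrimes S, ∃ r : R, x - algebraMap R S r ∈ (Q.comap (algebraMap R S)).map (algebraMap R S)) :
    x ∈ Set.range (algebraMap R S) := by
  haveI := hfin.to_subtype
  choose r hr using fun Q : minimalPrimes S => hx Q Q.2
  choose F hF hFp using fun Q : minimalPrimes S => h.exists_coeff (hr Q)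
  obtain ⟨u, g, hs, -, hu⟩ := h.exists_stage ((Set.finite_iUnion hF).insert x)
  obtain ⟨p, hp, hpx⟩ := hs.exists_repr (hu (Set.mem_insert _ _))
  refine ⟨p.coeff 0, ?_⟩
  have hp0 : p = C (p.coeff 0) := Polynomial.ext fun i => by
    rw [coeff_C]
    split_ifs with hi
    · rw [hi]
    refine h.injective ((show algebraMap R S (p.coeff i) = 0 from ?_).trans (map_zero _).symm)
    have h0 : algebraMap R S (p.coeff i) ∈ (⊥ : Ideal S).radical := by
      rw [← Ideal.sInf_minimalPrimes, Submodule.mem_sInf]
      intro Q hQ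
      obtain ⟨q, hq, hqd, hqx⟩ := hFp ⟨Q, hQ⟩ u g hs
        ((Set.subset_iUnion F ⟨Q, hQ⟩).trans ((Set.subset_insert _ _).trans hu))
      have heq : p - C (r ⟨Q, hQ⟩) - q = 0 := by
        refine h.eq_zero_of_aeval hs ?_ (by rw [map_sub, map_sub, hpx, aeval_C, hqx, sub_self])
        exact lt_of_le_of_lt (natDegree_sub_le _ _) (max_lt_iff.mpr
          ⟨lt_of_le_of_lt (natDegree_sub_le _ _) (max_lt_iff.mpr
            ⟨hp, by rw [natDegree_C]; exact hs.natDegree_pos⟩), hqd⟩)
      have := congrArg (fun p => coeff p i) heq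
      simp only [coeff_sub, coeff_C, if_neg hi, sub_zero, coeff_zero, sub_eq_zero] at this
      rw [this]
      exact hq i
    obtain ⟨n, hn⟩ := h0
    exact eq_zero_of_pow_eq_zero (by simpa using hn)
  rw [← hpx, hp0, aeval_C, coeff_C_zero]

variable {A S : Type u} [CommRing A] [HenselianLocalRing A] [CommRing S] [HenselianLocalRing S]
  [Algebra A S] [IsLocalHom (algebraMap A S)]

omit [HenselianLocalRing A] [HenselianLocalRing S] [IsLocalHom (algebraMap A S)] in
/-- Elements of the subfield generated by the image of `D` are fractions. -/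
theorem exists_div_of_mem_closure {Ω : Type u} [Field Ω] [Algebra A Ω] (φ : S →ₐ[A] Ω) (D : Subalgebra A S)
    {x : Ω} (hx : x ∈ Subfield.closure (φ '' (D : Set S))) : ∃ a b : D, φ b ≠ 0 ∧ x * φ b = φ a := by
  rw [Subfield.mem_closure_iff] at hx
  obtain ⟨y, hy, z, hz, rfl⟩ := hx
  have hle : Subring.closure (φ '' (D : Set S)) ≤ D.toSubring.map φ.toRingHom :=
    Subring.closure_le.mpr fun _ h => h
  obtain ⟨a, ha, hya⟩ := hle hy
  obtain ⟨b, hb, hzb⟩ := hle hz
  rw [← hya, ← hzb]
  by_cases h0 : φ b = 0
  · refine ⟨0, 1, by simp, ?_⟩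
    show φ a / φ b * φ (1 : S) = φ (0 : S)
    rw [h0, div_zero, zero_mul, map_zero]
  · exact ⟨⟨a, ha⟩, ⟨b, hb⟩, h0, div_mul_cancel₀ _ h0⟩

variable (D : Subalgebra A S) {Ω : Type u} [Field Ω] [Algebra A Ω] (φ : S →ₐ[A] Ω)
  (hφ : (RingHom.ker φ.toRingHom).comap (algebraMap D S) ∈ minimalPrimes D)
  {R : Subalgebra A S} [HenselianLocalRing R] (hR : R ≤ D)

omit [HenselianLocalRing A] [HenselianLocalRing S] [IsLocalHom (algebraMap A S)] [HenselianLocalRing R] in
/-- Elements of a component are fractions. -/
theorem exists_fraction_of_comp (y : integralClosure D (FractionRing D)) :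
    ∃ a b : D, φ b ≠ 0 ∧ fracHom D φ hφ y * φ b = φ a := by
  obtain ⟨⟨a, b⟩, hab⟩ := IsLocalization.surj (nonZeroDivisors D) (y : FractionRing D)
  refine ⟨a, b, fun h0 => ?_, ?_⟩
  · exact Set.disjoint_left.mp (Ideal.disjoint_nonZeroDivisors_of_mem_minimalPrimes hφ) h0 b.2
  · have := congrArg (fracHom D φ hφ) hab
    rwa [map_mul, fracHom_algebraMap, fracHom_algebraMap] at this

/-- The residual minimal polynomial of a simple element seen in a component. -/
theorem minpoly_comp [IsLocalHom (algebraMap R S)] :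
    letI : Algebra R Ω := (φ.toRingHom.comp (algebraMap R S)).toAlgebra
    ∀ [IsLocalRing (comp D φ hφ hR)] [IsLocalHom (algebraMap R (comp D φ hφ hR))]
      (y : comp D φ hφ hR) {w : S}, Simple R w → φ w = y.1 →
      IsSeparable (ResidueField R) (residue (comp D φ hφ hR) y) ∧
        minpoly (ResidueField R) (residue (comp D φ hφ hR) y) = minpoly (ResidueField R) (residue S w) := by
  letI : Algebra R Ω := (φ.toRingHom.comp (algebraMap R S)).toAlgebra
  intro _ _ y w hw hwy
  let C := comp D φ hφ hR
  obtain ⟨hfin, hl, hTS, hunr⟩ := adjoin_facts (Set.finite_singleton w) (fun x hx => hx ▸ hw)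
  haveI := hfin; haveI := hl; haveI := hTS; haveI := hunr
  let T := Algebra.adjoin R ({w} : Set S)
  haveI : IsLocalHom (algebraMap R T) := isLocalHom_algebraMap
  let φR : S →ₐ[R] Ω := { φ.toRingHom with commutes' := fun _ => rfl }
  have hTC : ∀ t ∈ T, φR t ∈ C := by
    intro t ht
    refine (Algebra.adjoin_le (S := C.comap φR) ?_) ht
    intro x hx
    rw [Set.mem_singleton_iff.mp hx]
    show φ w ∈ C
    rw [hwy]
    exact y.2
  let α : T →ₐ[R] C := (φR.comp T.val).codRestrict C fun t => hTC t t.2
  let t : T := ⟨w, Algebra.subset_adjoin rfl⟩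
  have hy : y = α t := Subtype.ext hwy.symm
  rw [hy, show residue S w = residue S (T.val t) from rfl, minpoly_residue_map T.val t]
  refine ⟨?_, minpoly_residue_map α t⟩
  rw [IsSeparable, minpoly_residue_map α t]
  exact Algebra.IsSeparable.isSeparable _ _

/-- Simple elements whose values are fractions generate the trace of the fraction field of a component. -/
theorem Strict.exists_generated_component (h : Strict A S) [IsLocalHom (algebraMap R S)] (hRS : Strict R S)
    [IsReduced D] [Algebra.IsIntegral A D] (hfin : (minimalPrimes D).Finite) (n : ℕ) :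
    letI : Algebra R Ω := (φ.toRingHom.comp (algebraMap R S)).toAlgebra
    ∀ [IsLocalRing (comp D φ hφ hR)] [IsLocalHom (algebraMap R (comp D φ hφ hR))],
      (∀ θ : ResidueField (comp D φ hφ hR), IsSeparable (ResidueField R) θ →
        (minpoly (ResidueField R) θ).natDegree ≤ n) →
      ∃ v : S, Simple R v ∧ (minpoly (ResidueField R) (residue S v)).natDegree ≤ n ∧
        (∀ x ∈ D, ∃ e ∈ Algebra.adjoin R ({v} : Set S), φ e = φ x) ∧
        RingHom.ker φ.toRingHom = ((RingHom.ker φ.toRingHom).comap
          (algebraMap (Algebra.adjoin R ({v} : Set S)) S)).map (algebraMap (Algebra.adjoin R ({v} : Set S)) S) := by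
  letI : Algebra R Ω := (φ.toRingHom.comp (algebraMap R S)).toAlgebra
  intro _ _ hb
  let φR : S →ₐ[R] Ω := { φ.toRingHom with commutes' := fun _ => rfl }
  let L : Subfield Ω := Subfield.closure (φ '' (D : Set S))
  let g : R →+* L := (φ.toRingHom.comp (algebraMap R S)).codRestrict L
    fun r => Subfield.subset_closure ⟨_, hR r.2, rfl⟩
  letI : Algebra R L := g.toAlgebra
  let ι : L →ₐ[R] Ω := { L.subtype with commutes' := fun _ => rfl }
  have hbound : ∀ w, Simple R w → φR w ∈ Set.range ι →
      (minpoly (ResidueField R) (residue S w)).natDegree ≤ n := by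
    rintro w hw ⟨z, hz⟩
    obtain ⟨a, b, hb0, hab⟩ := exists_div_of_mem_closure φ D z.2
    have hwa : φ w * φ b = φ a := by rw [← hab]; exact congrArg (· * φ b) hz.symm
    haveI := h.isIntegral
    obtain ⟨z', hz'⟩ := exists_integral_lift D φ hφ hfin ((Algebra.IsIntegral.isIntegral w).map φ) hb0 hwa
    obtain ⟨hsep, heq⟩ := minpoly_comp D φ hφ hR (compHom D φ hφ hR z') hw hz'.symm
    rw [← heq]
    exact hb _ hsep
  obtain ⟨v, hv, hvι, h1, -, h3⟩ := hRS.exists_generated φR ι hbound
  exact ⟨v, hv, hbound v hv hvι, fun x hx => h1 x ⟨⟨φ x, Subfield.subset_closure ⟨x, hx, rfl⟩⟩, rfl⟩, h3⟩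

end Groth.Agent.H9SInter
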