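import Groth.Agent.H9SInter.Criterion

/-!
# The residual criterion for being generated over the core
-/

set_option autoImplicit false
set_option linter.style.haveILetI false

universe u

open IsLocalRing Polynomial

noncomputable section

namespace Groth.Agent.H9SInter

/-- The image of `D` in a residue field of its normalisation generates this subfield. -/
abbrev baseField {A S : Type u} [CommRing A] [CommRing S] [Algebra A S] (D : Subalgebra A S)
    (M : Ideal (integralClosure D (FractionRing D))) [M.IsPrime] : Subfield M.ResidueField :=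
  Subfield.closure (Set.range ((algebraMap (integralClosure D (FractionRing D)) M.ResidueField).comp
    (algebraMap D (integralClosure D (FractionRing D)))))

variable {A S : Type u} [CommRing A] [HenselianLocalRing A] [CommRing S] [HenselianLocalRing S]
  [Algebra A S] [IsLocalHom (algebraMap A S)]
  (D : Subalgebra A S) {Ω : Type u} [Field Ω] [Algebra A Ω] (φ : S →ₐ[A] Ω)
  (hφ : (RingHom.ker φ.toRingHom).comap (algebraMap D S) ∈ minimalPrimes D)
  {R : Subalgebra A S} [HenselianLocalRing R] [IsLocalHom (algebraMap R S)]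

/-- Over an extended component the base field is separably closed in the residue field. -/
theorem Strict.separably_closed_of_extended (h : Strict A S) (hRS : Strict R S) (hR : R ≤ D) (hDR : D ≤ R)
    (hres : ∀ x ∈ D, ∃ r ∈ R, residue S r = residue S x)
    (M : Ideal (integralClosure D (FractionRing D))) [M.IsPrime]
    (hM : ∀ x, x ∈ M ↔ ¬ IsUnit (compHom D φ hφ hR x))
    (hker : RingHom.ker φ.toRingHom ≤ ((RingHom.ker φ.toRingHom).comap (algebraMap R S)).map (algebraMap R S))
    (θ : M.ResidueField) (hθ : IsSeparable (baseField D M) θ) : θ ∈ baseField D M := by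
  letI : Algebra R Ω := (φ.toRingHom.comp (algebraMap R S)).toAlgebra
  obtain ⟨-, hCH, hRC⟩ := h.comp_henselian D φ hφ hR
  haveI := hCH; haveI := hRC
  obtain ⟨j, -, hj⟩ := h.residue_compare D φ hφ hR hres M hM
  obtain ⟨hs, -, hiff⟩ := hj θ
  refine hiff.mpr ?_
  obtain ⟨y, f, hy, -, hf⟩ := exists_simple_lift (R := R) (hs.mp hθ)
  let φR : S →ₐ[R] Ω := { φ.toRingHom with commutes' := fun _ => rfl }
  have hroot : aeval (y : Ω) f = 0 := by
    rw [← Polynomial.aeval_subalgebra_coe, hf.root]; rfl
  obtain ⟨w, hw, -, hwy⟩ := hRS.exists_root φR hf.monic hf.separable hroot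
  obtain ⟨z, hz⟩ := compHom_surjective D φ hφ hR y
  obtain ⟨a, b, hb, hab⟩ := exists_fraction_of_comp D φ hφ z
  have hzy : fracHom D φ hφ z = φR w := (congrArg Subtype.val hz).trans hwy.symm
  obtain ⟨r, hr⟩ := hRS.mem_range_of_fraction (φ := φR) hker hw (a := ⟨a, hDR a.2⟩) (b := ⟨b, hDR b.2⟩) hb
    (by rw [← hzy]; exact hab)
  refine ⟨residue R r, ?_⟩
  rw [← hy]
  refine congrArg (residue _) (Subtype.ext ?_)
  rw [← hwy, ← hr]
  rfl

include hφ in
/-- If the base fields are separably closed, the component is generated over the core. -/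
theorem Strict.generated_of_closed (h : Strict A S) (hRS : Strict R S) (hR : R ≤ D)
    (hres : ∀ x ∈ D, ∃ r ∈ R, residue S r = residue S x) [IsReduced D] [Algebra.IsIntegral A D]
    (hfin : (minimalPrimes D).Finite)
    (hsep : ∀ (M : Ideal (integralClosure D (FractionRing D))) [M.IsMaximal],
      ∀ θ : M.ResidueField, IsSeparable (baseField D M) θ → θ ∈ baseField D M) :
    RingHom.ker φ.toRingHom = ((RingHom.ker φ.toRingHom).comap (algebraMap R S)).map (algebraMap R S) ∧
      ∀ x ∈ D, ∃ r : R, x - algebraMap R S r ∈ RingHom.ker φ.toRingHom := by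
  letI : Algebra R Ω := (φ.toRingHom.comp (algebraMap R S)).toAlgebra
  obtain ⟨-, hCH, hRC⟩ := h.comp_henselian D φ hφ hR
  haveI := hCH; haveI := hRC
  let π := compHom D φ hφ hR
  let M := (maximalIdeal (comp D φ hφ hR)).comap π
  haveI hMmax : M.IsMaximal := Ideal.comap_isMaximal_of_surjective π (compHom_surjective D φ hφ hR)
  obtain ⟨j, hjb, hj⟩ := h.residue_compare D φ hφ hR hres M
    (fun x => Ideal.mem_comap.trans (mem_maximalIdeal _))
  have hbd : ∀ η : ResidueField (comp D φ hφ hR), IsSeparable (ResidueField R) η →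
      (minpoly (ResidueField R) η).natDegree ≤ 1 := by
    intro η hη
    obtain ⟨θ, rfl⟩ := hjb.2 η
    obtain ⟨hs, -, hiff⟩ := hj θ
    obtain ⟨c, hc⟩ := hiff.mp (hsep M θ (hs.mpr hη))
    rw [← hc, minpoly.eq_X_sub_C]
    exact (natDegree_X_sub_C _).le
  obtain ⟨v, hv, hvd, himg, hker⟩ := h.exists_generated_component D φ hφ hR hRS hfin 1 hbd
  haveI := hRS.sepClosure.separable
  have hvR : v ∈ Set.range (algebraMap R S) := mem_range_of_residue hv
    (minpoly.natDegree_eq_one_iff.mp (le_antisymm hvd
      (minpoly.natDegree_pos (Algebra.IsSeparable.isSeparable _ _).isIntegral)))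
  have hbot : ∀ e ∈ Algebra.adjoin R ({v} : Set S), ∃ r : R, algebraMap R S r = e := fun e he =>
    Algebra.mem_bot.mp (Algebra.adjoin_le (Set.singleton_subset_iff.mpr (Algebra.mem_bot.mpr hvR)) he)
  refine ⟨le_antisymm (fun s hs => ?_) Ideal.map_comap_le, fun x hx => ?_⟩
  · rw [hker] at hs
    refine Ideal.map_le_iff_le_comap.mpr (fun e he => ?_) hs
    obtain ⟨r, hr⟩ := hbot e e.2
    rw [Ideal.mem_comap, show algebraMap (Algebra.adjoin R ({v} : Set S)) S e = algebraMap R S r from hr.symm]
    refine Ideal.mem_map_of_mem _ ?_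
    show algebraMap R S r ∈ RingHom.ker φ.toRingHom
    rw [hr]
    exact he
  · obtain ⟨e, he, hee⟩ := himg x hx
    obtain ⟨r, rfl⟩ := hbot e he
    refine ⟨r, ?_⟩
    show φ (x - _) = 0
    rw [map_sub, hee, sub_self]

omit [HenselianLocalRing A] [HenselianLocalRing S] [IsLocalHom (algebraMap A S)] [HenselianLocalRing R]
  [IsLocalHom (algebraMap R S)] in
theorem separableClosure_eq_bot_iff (M : Ideal (integralClosure D (FractionRing D))) [M.IsPrime] :
    separableClosure (baseField D M) M.ResidueField = ⊥ ↔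
      ∀ θ : M.ResidueField, IsSeparable (baseField D M) θ → θ ∈ baseField D M := by
  refine ⟨fun hb θ hθ => ?_, fun hcl => eq_bot_iff.mpr fun θ hθ => ?_⟩
  · have := mem_separableClosure_iff.mpr hθ
    rw [hb, IntermediateField.mem_bot] at this
    obtain ⟨x, rfl⟩ := this
    exact x.2
  · exact IntermediateField.mem_bot.mpr ⟨⟨θ, hcl θ (mem_separableClosure_iff.mp hθ)⟩, rfl⟩

end Groth.Agent.H9SInter
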