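import Groth.Agent.H9SInter.Finite

/-!
# The separable degree criterion
-/

set_option autoImplicit false
set_option linter.style.haveILetI false

universe u

open IsLocalRing Polynomial

noncomputable section

namespace Groth.Agent.H9SInter

/-- A subalgebra with finite images at all minimal primes of a reduced ring is Noetherian. -/
theorem isNoetherianRing_of_images {R S : Type u} [CommRing R] [IsNoetherianRing R] [CommRing S] [Algebra R S]
    [IsReduced S] (hfin : (minimalPrimes S).Finite) (D : Subalgebra R S)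
    (hD : ∀ Q ∈ minimalPrimes S, ∃ V : Subalgebra R S, Module.Finite R V ∧ ∀ x ∈ D, ∃ e ∈ V, x - e ∈ Q) :
    IsNoetherianRing D := by
  haveI := hfin.to_subtype
  choose V hV hVx using fun Q : minimalPrimes S => hD Q Q.2
  let N : ∀ Q : minimalPrimes S, Submodule R (S ⧸ (Q : Ideal S)) := fun Q =>
    (V Q).toSubmodule.map (Ideal.Quotient.mkₐ R (Q : Ideal S)).toLinearMap
  haveI : ∀ Q, Module.Finite R (N Q) := fun Q =>
    Module.Finite.iff_fg.mpr ((Module.Finite.iff_fg.mp (hV Q)).map _)
  have hmem : ∀ (Q : minimalPrimes S) (x : D), Ideal.Quotient.mkₐ R (Q : Ideal S) (x : S) ∈ N Q := by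
    intro Q x
    obtain ⟨e, he, hxe⟩ := hVx Q x x.2
    exact ⟨e, he, (Ideal.Quotient.eq.mpr hxe).symm⟩
  let Ψ : D →ₗ[R] (∀ Q, N Q) := LinearMap.pi fun Q =>
    ((Ideal.Quotient.mkₐ R (Q : Ideal S)).toLinearMap.comp D.val.toLinearMap).codRestrict (N Q) (hmem Q)
  have hinj : Function.Injective Ψ := by
    rw [injective_iff_map_eq_zero]
    intro x hx
    refine Subtype.ext ?_
    have h0 : (x : S) ∈ (⊥ : Ideal S).radical := by
      rw [← Ideal.sInf_minimalPrimes, Submodule.mem_sInf]
      intro Q hQ
      exact Ideal.Quotient.eq_zero_iff_mem.mp (congrArg Subtype.val (congrFun hx ⟨Q, hQ⟩))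
    obtain ⟨n, hn⟩ := h0
    exact eq_zero_of_pow_eq_zero (by simpa using hn)
  haveI : Module.Finite R D := Module.Finite.of_injective Ψ hinj
  exact IsNoetherianRing.of_finite R D

variable {A S : Type u} [CommRing A] [HenselianLocalRing A] [CommRing S] [HenselianLocalRing S]
  [Algebra A S] [IsLocalHom (algebraMap A S)]
  (D : Subalgebra A S) {Ω : Type u} [Field Ω] [Algebra A Ω] (φ : S →ₐ[A] Ω)
  (hφ : (RingHom.ker φ.toRingHom).comap (algebraMap D S) ∈ minimalPrimes D)
  {R : Subalgebra A S} [HenselianLocalRing R] [IsLocalHom (algebraMap R S)]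

/-- An extended component has finite residual separable degree. -/
theorem Strict.finiteDimensional_of_extended (h : Strict A S) (hRS : Strict R S) (hR : R ≤ D)
    (hres : ∀ x ∈ D, ∃ r ∈ R, residue S r = residue S x)
    (M : Ideal (integralClosure D (FractionRing D))) [M.IsPrime]
    (hM : ∀ x, x ∈ M ↔ ¬ IsUnit (compHom D φ hφ hR x))
    {W : Set S} (hWf : W.Finite) (hW : ∀ w ∈ W, Simple R w) (hD : ∀ x ∈ D, x ∈ Algebra.adjoin R W)
    (hker : RingHom.ker φ.toRingHom ≤ ((RingHom.ker φ.toRingHom).comap
      (algebraMap (Algebra.adjoin R W) S)).map (algebraMap (Algebra.adjoin R W) S)) :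
    FiniteDimensional (baseField D M) (separableClosure (baseField D M) M.ResidueField) := by
  letI : Algebra R Ω := (φ.toRingHom.comp (algebraMap R S)).toAlgebra
  obtain ⟨-, hCH, hRC⟩ := h.comp_henselian D φ hφ hR
  haveI := hCH; haveI := hRC
  obtain ⟨j, -, hj⟩ := h.residue_compare D φ hφ hR hres M hM
  obtain ⟨n, hn⟩ := h.degree_le_of_extended D φ hφ hRS hR hWf hW hD hker
  refine finiteDimensional_of_bound (n := n) fun x => ?_
  rw [← minpoly.algHom_eq (separableClosure (baseField D M) M.ResidueField).val Subtype.val_injective x]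
  obtain ⟨hs, hdeg, -⟩ := hj (x : M.ResidueField)
  exact hdeg.trans_le (hn _ (hs.mp (mem_separableClosure_iff.mp x.2)))

include hφ in
/-- Finite residual separable degrees give finite images. -/
theorem Strict.exists_image_of_finite (h : Strict A S) (hRS : Strict R S) (hR : R ≤ D)
    (hres : ∀ x ∈ D, ∃ r ∈ R, residue S r = residue S x) [IsReduced D] [Algebra.IsIntegral A D]
    (hfin : (minimalPrimes D).Finite)
    (hsep : ∀ (M : Ideal (integralClosure D (FractionRing D))) [M.IsMaximal],
      FiniteDimensional (baseField D M) (separableClosure (baseField D M) M.ResidueField)) :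
    ∃ v : S, Simple R v ∧
      ∀ x ∈ D, ∃ e ∈ Algebra.adjoin R ({v} : Set S), x - e ∈ RingHom.ker φ.toRingHom := by
  letI : Algebra R Ω := (φ.toRingHom.comp (algebraMap R S)).toAlgebra
  obtain ⟨-, hCH, hRC⟩ := h.comp_henselian D φ hφ hR
  haveI := hCH; haveI := hRC
  let π := compHom D φ hφ hR
  let M := (maximalIdeal (comp D φ hφ hR)).comap π
  haveI hMmax : M.IsMaximal := Ideal.comap_isMaximal_of_surjective π (compHom_surjective D φ hφ hR)
  obtain ⟨j, hjb, hj⟩ := h.residue_compare D φ hφ hR hres M
    (fun x => Ideal.mem_comap.trans (mem_maximalIdeal _))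
  haveI := hsep M
  have hbd : ∀ η : ResidueField (comp D φ hφ hR), IsSeparable (ResidueField R) η →
      (minpoly (ResidueField R) η).natDegree ≤
        Module.finrank (baseField D M) (separableClosure (baseField D M) M.ResidueField) := by
    intro η hη
    obtain ⟨θ, rfl⟩ := hjb.2 η
    obtain ⟨hs, hdeg, -⟩ := hj θ
    exact hdeg.symm.trans_le (natDegree_le_of_finite (hs.mpr hη))
  obtain ⟨v, hv, -, himg, -⟩ := h.exists_generated_component D φ hφ hR hRS hfin _ hbd
  refine ⟨v, hv, fun x hx => ?_⟩
  obtain ⟨e, he, hee⟩ := himg x hx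
  refine ⟨e, he, ?_⟩
  show φ (x - e) = 0
  rw [map_sub, hee, sub_self]

end Groth.Agent.H9SInter
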