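import Groth.Agent.H9SInter.Finite2
import Groth.Agent.S2747
import Groth.Agent.S0540
import Groth.Agent.S0539

/-!
# Noetherian intermediate rings and residual separable degrees
-/

set_option autoImplicit false
set_option linter.style.haveILetI false

universe u

noncomputable section

namespace Groth.Agent.H9SInter

variable {A S : Type u} [CommRing A] [HenselianLocalRing A] [CommRing S] [IsLocalRing S] [Algebra A S]
  [IsLocalHom (algebraMap A S)] [Hensel.IsStrictHenselization A S]

/-- Noetherian intermediate rings have finite residual separable degrees. -/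
theorem finiteDimensional_of_isNoetherianRing [IsReduced A] (hA : EGA4.IsExcellent A) (D : Subalgebra A S)
    [IsNoetherianRing D] (M : Ideal (integralClosure D (FractionRing D))) [M.IsMaximal] :
    FiniteDimensional (baseField D M) (separableClosure (baseField D M) M.ResidueField) := by
  classical
  haveI := (inferInstance : Hensel.IsStrictHenselization A S).henselian
  have h : Strict A S := Strict.of_isStrictHenselization
  haveI : IsNoetherianRing A := hA.1
  haveI : IsNoetherianRing S := (Groth.Agent.S0540.result A S).mp inferInstance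
  haveI : IsReduced S := (Groth.Agent.S2747.result A S).mpr inferInstance
  haveI := Groth.Agent.S0539.result A S
  haveI : IsReduced D := isReduced_of_injective D.val Subtype.val_injective
  have hSfin := minimalPrimes.finite_of_isNoetherianRing S
  have hfin : (minimalPrimes D).Finite := minimalPrimes_finite_of_subalgebra D hSfin
  obtain ⟨hint, hDH, hAD, hDS⟩ := h.subalgebra_henselian D
  haveI := hint; haveI := hDH; haveI := hAD; haveI := hDS
  let R := core D
  have hR : R ≤ D := core_le D
  obtain ⟨hRH, hRS, -, hR'⟩ := h.adjoin (W := {w : S | Simple A w ∧ w ∈ D}) fun w hw => hw.1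
  haveI := hRH; haveI := hRS
  have hres : ∀ x ∈ D, ∃ r ∈ R, IsLocalRing.residue S r = IsLocalRing.residue S x :=
    fun x hx => h.exists_core_residue D hx
  haveI : IsNoetherianRing R := hR'.isNoetherianRing
  have hfg : (IsLocalRing.maximalIdeal D).FG := Ideal.fg_of_isNoetherianRing _
  have h1 := h.exists_stage_of_fg (R := R) D
  have h2 := h1 hR'
  have h3 := h2 hres hR
  have h4 := h3 hfg
  rcases h4 with ⟨u, hu, hDu⟩
  have hex : ∀ Q : minimalPrimes S, ∃ v : S, Simple A v ∧
      Q.1 = (Q.1.comap (algebraMap (Algebra.adjoin A ({v} : Set S)) S)).map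
        (algebraMap (Algebra.adjoin A ({v} : Set S)) S) := fun Q => by
    haveI := Q.2.isPrime
    obtain ⟨v, hv, -, -, -, hv'⟩ := exists_image hA Q.1 (∅ : Finset _)
    exact ⟨v, hv, hv'⟩
  choose v hv hgen using hex
  haveI := hSfin.to_subtype
  let W : Set S := insert u (Set.range v)
  have hW : ∀ w ∈ W, Simple R w := by
    rintro w (rfl | ⟨Q, rfl⟩)
    · exact hu
    · exact (hv Q).tower
  obtain ⟨Q, hQp, hφ, hQ, hM⟩ := h.exists_component D hfin hR M
  refine h.finiteDimensional_of_extended D (proj Q) hφ hR' hR hres M hM
    ((Set.finite_range v).insert u) hW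
    (fun x hx => Algebra.adjoin_mono (Set.singleton_subset_iff.mpr (Set.mem_insert u _)) (hDu x hx)) ?_
  rw [ker_proj]
  have hle : Algebra.adjoin A ({v ⟨Q, hQ⟩} : Set S) ≤ (Algebra.adjoin R W).restrictScalars A :=
    Algebra.adjoin_le (Set.singleton_subset_iff.mpr (Algebra.subset_adjoin (s := W)
      (Set.mem_insert_of_mem _ (Set.mem_range_self (f := v) ⟨Q, hQ⟩))))
  exact (map_comap_mono hle (hgen ⟨Q, hQ⟩)).le

/-- Finite residual separable degrees make an intermediate ring Noetherian. -/
theorem isNoetherianRing_of_finiteDimensional [IsReduced A] (hA : EGA4.IsExcellent A) (D : Subalgebra A S)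
    (hsep : ∀ (M : Ideal (integralClosure D (FractionRing D))) [M.IsMaximal],
      FiniteDimensional (baseField D M) (separableClosure (baseField D M) M.ResidueField)) :
    IsNoetherianRing D := by
  classical
  haveI := (inferInstance : Hensel.IsStrictHenselization A S).henselian
  have h : Strict A S := Strict.of_isStrictHenselization
  haveI : IsNoetherianRing A := hA.1
  haveI : IsNoetherianRing S := (Groth.Agent.S0540.result A S).mp inferInstance
  haveI : IsReduced S := (Groth.Agent.S2747.result A S).mpr inferInstance
  haveI := Groth.Agent.S0539.result A S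
  haveI : IsReduced D := isReduced_of_injective D.val Subtype.val_injective
  have hSfin := minimalPrimes.finite_of_isNoetherianRing S
  have hfin : (minimalPrimes D).Finite := minimalPrimes_finite_of_subalgebra D hSfin
  obtain ⟨hint, hDH, hAD, hDS⟩ := h.subalgebra_henselian D
  haveI := hint; haveI := hDH; haveI := hAD; haveI := hDS
  let R := core D
  have hR : R ≤ D := core_le D
  obtain ⟨hRH, hRS, -, hR'⟩ := h.adjoin (W := {w : S | Simple A w ∧ w ∈ D}) fun w hw => hw.1
  haveI := hRH; haveI := hRS
  have hres : ∀ x ∈ D, ∃ r ∈ R, IsLocalRing.residue S r = IsLocalRing.residue S x :=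
    fun x hx => h.exists_core_residue D hx
  haveI : IsNoetherianRing R := hR'.isNoetherianRing
  let DR : Subalgebra R S := { D.toSubsemiring with algebraMap_mem' := fun r => hR r.2 }
  suffices hDR : IsNoetherianRing DR from hDR
  refine isNoetherianRing_of_images hSfin DR fun Q hQ => ?_
  haveI := hQ.isPrime
  have hk : RingHom.ker (proj (A := A) Q).toRingHom = Q := ker_proj Q
  have hφ : (RingHom.ker (proj (A := A) Q).toRingHom).comap (algebraMap D S) ∈ minimalPrimes D := by
    rw [hk]; exact comap_mem_minimalPrimes D hQ
  obtain ⟨v, hv, hvD⟩ := h.exists_image_of_finite D (proj Q) hφ hR' hR hres hfin (fun M _ => hsep M)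
  rw [hk] at hvD
  exact ⟨Algebra.adjoin R ({v} : Set S),
    (adjoin_facts (Set.finite_singleton v) (fun x hx => hx ▸ hv)).1, hvD⟩

end Groth.Agent.H9SInter
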