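import Groth.Agent.H9SInter.Closed
import Mathlib.RingTheory.Ideal.MinimalPrime.Localization
import Mathlib.RingTheory.LocalRing.ResidueField.Ideal
import Mathlib.RingTheory.Flat.Basic
import Mathlib.RingTheory.Ideal.GoingDown

/-!
# Subalgebras of a strict henselization and their normalisations
-/

set_option autoImplicit false
set_option linter.style.haveILetI false

universe u

open IsLocalRing Polynomial

noncomputable section

namespace Groth.Agent.H9SInter

/-- An element outside the minimal primes of a reduced ring is a nonzerodivisor. -/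
theorem mem_nonZeroDivisors_of_notMem {D : Type u} [CommRing D] [IsReduced D] {x : D}
    (h : ∀ q ∈ minimalPrimes D, x ∉ q) : x ∈ nonZeroDivisors D := by
  rw [mem_nonZeroDivisors_iff_right]
  intro y hy
  have : y ∈ (⊥ : Ideal D).radical := by
    rw [← Ideal.sInf_minimalPrimes, Submodule.mem_sInf]
    intro q hq
    exact (hq.isPrime.mem_or_mem (hy ▸ zero_mem q : y * x ∈ q)).resolve_right (h q hq)
  obtain ⟨n, hn⟩ := this
  exact eq_zero_of_pow_eq_zero (by simpa using hn)

/-- Separating a minimal prime from the others. -/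
theorem exists_separator {D : Type u} [CommRing D] (hfin : (minimalPrimes D).Finite) {q : Ideal D}
    (hq : q ∈ minimalPrimes D) :
    ∃ d c : D, d ∉ q ∧ c ∈ q ∧ ∀ q' ∈ minimalPrimes D, q' ≠ q → d ∈ q' ∧ c ∉ q' := by
  classical
  let s := hfin.toFinset.erase q
  have hs : ∀ q' ∈ s, q' ∈ minimalPrimes D ∧ q' ≠ q := fun q' hq' =>
    ⟨(Set.Finite.mem_toFinset _).mp (Finset.mem_of_mem_erase hq'), Finset.ne_of_mem_erase hq'⟩
  have h1 : ¬ ∏ q' ∈ s, q' ≤ q := by
    rw [hq.isPrime.prod_le]
    rintro ⟨q', hq', hle⟩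
    exact (hs q' hq').2 (le_antisymm hle (hq.2 (hs q' hq').1.1 hle))
  obtain ⟨d, hd, hdq⟩ := SetLike.not_le_iff_exists.mp h1
  have h2 : ¬ (q : Set D) ⊆ ⋃ q' ∈ (s : Set (Ideal D)), (q' : Set D) := by
    intro hsub
    obtain ⟨q', hq', hle⟩ := (Ideal.subset_union_prime q q fun i hi _ _ => (hs i hi).1.isPrime).mp hsub
    exact (hs q' hq').2 (le_antisymm ((hs q' hq').1.2 hq.1 hle) hle)
  obtain ⟨c, hc, hc'⟩ := Set.not_subset.mp h2
  refine ⟨d, c, hdq, hc, fun q' hq' hne => ?_⟩
  have hmem : q' ∈ s := Finset.mem_erase.mpr ⟨hne, (Set.Finite.mem_toFinset _).mpr hq'⟩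
  exact ⟨Ideal.le_of_dvd (Finset.dvd_prod_of_mem _ hmem) hd, fun hcq => hc' (Set.mem_biUnion (Finset.mem_coe.mpr hmem) hcq)⟩

variable {A S : Type u} [CommRing A] [HenselianLocalRing A] [CommRing S] [HenselianLocalRing S]
  [Algebra A S] [IsLocalHom (algebraMap A S)]

/-- Subalgebras of `S` are henselian local. -/
theorem Strict.subalgebra_henselian (h : Strict A S) (D : Subalgebra A S) :
    Algebra.IsIntegral A D ∧ ∃ _ : HenselianLocalRing D,
      IsLocalHom (algebraMap A D) ∧ IsLocalHom (algebraMap D S) := by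
  haveI := h.isIntegral
  haveI hint : Algebra.IsIntegral A D :=
    ⟨fun x => (isIntegral_algHom_iff D.val Subtype.val_injective).mp (Algebra.IsIntegral.isIntegral _)⟩
  have hloc : ∀ x : D, IsUnit (x : S) → IsUnit x := by
    intro x hx
    let T := Algebra.adjoin A ({(x : S)} : Set S)
    haveI : Module.Finite A T :=
      Module.Finite.iff_fg.mpr (Algebra.IsIntegral.isIntegral (R := A) (x : S)).fg_adjoin_singleton
    haveI : Nontrivial T := T.val.toRingHom.domain_nontrivial
    haveI : IsLocalRing T := isLocalRing_of_finite (R := A) fun e he => by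
      rcases IsLocalRing.isUnit_or_isUnit_one_sub_self (e : S) with h | h
      · refine Or.inr (Subtype.ext ?_)
        exact h.mul_left_cancel (((congrArg Subtype.val he.eq : ((e * e : T) : S) = e)).trans (mul_one _).symm)
      · refine Or.inl (Subtype.ext ?_)
        refine h.mul_left_cancel ?_
        rw [sub_mul, one_mul, show (e : S) * e = e from congrArg Subtype.val he.eq, sub_self, ZeroMemClass.coe_zero,
          mul_zero]
    haveI := isLocalHom_of_isIntegral T.val
    exact (isUnit_of_map_unit T.val.toRingHom ⟨x, Algebra.subset_adjoin rfl⟩ hx).map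
      (Subalgebra.inclusion (Algebra.adjoin_le (Set.singleton_subset_iff.mpr x.2)))
  haveI : Nontrivial D := D.val.toRingHom.domain_nontrivial
  haveI : IsLocalRing D := IsLocalRing.of_isUnit_or_isUnit_one_sub_self fun x =>
    (IsLocalRing.isUnit_or_isUnit_one_sub_self (x : S)).imp (hloc x) fun h => hloc (1 - x) h
  haveI : IsLocalHom (algebraMap A D) := isLocalHom_algebraMap
  exact ⟨hint, (H9Hens.henselian_of_isIntegral (R := A) (T := D)).1, inferInstance, ⟨hloc⟩⟩

/-- The algebra generated by the simple elements of a subalgebra. -/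
abbrev core (D : Subalgebra A S) : Subalgebra A S := Algebra.adjoin A {w : S | Simple A w ∧ w ∈ D}

omit [HenselianLocalRing A] [HenselianLocalRing S] [IsLocalHom (algebraMap A S)] in
theorem core_le (D : Subalgebra A S) : core D ≤ D := Algebra.adjoin_le fun _ hw => hw.2

/-- The core has the residue field of the subalgebra. -/
theorem Strict.exists_core_residue (h : Strict A S) (D : Subalgebra A S) {x : S} (hx : x ∈ D) :
    ∃ r ∈ core D, residue S r = residue S x := by
  obtain ⟨hint, hH, hAD, hDS⟩ := h.subalgebra_henselian D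
  haveI := hint; haveI := hH; haveI := hAD; haveI := hDS
  have hsep : IsSeparable (ResidueField A) (residue D ⟨x, hx⟩) := by
    rw [IsSeparable, ← minpoly_residue_map D.val ⟨x, hx⟩]
    exact h.sepClosure.separable.isSeparable' _
  obtain ⟨w, g, hw, ⟨f, hf, h0, hu⟩, -⟩ := exists_simple_lift (R := A) (S := D) hsep
  refine ⟨w, Algebra.subset_adjoin ⟨⟨f, hf, ?_, ?_⟩, w.2⟩, ?_⟩
  · rw [← Polynomial.aeval_subalgebra_coe, h0]; rfl
  · rw [← Polynomial.aeval_subalgebra_coe]; exact hu.map D.val
  · exact congrArg (ResidueField.map (algebraMap D S)) hw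

omit [HenselianLocalRing A] [HenselianLocalRing S] [IsLocalHom (algebraMap A S)] in
/-- A minimal prime of `S` contracts to a minimal prime of an intermediate ring. -/
theorem comap_mem_minimalPrimes [Module.Flat A S] (D : Subalgebra A S) [Algebra.IsIntegral A D] {Q : Ideal S}
    (hQ : Q ∈ minimalPrimes S) : Q.comap (algebraMap D S) ∈ minimalPrimes D := by
  haveI := hQ.isPrime
  refine ⟨⟨inferInstance, bot_le⟩, fun P hP hle => ?_⟩
  haveI := hP.1
  by_contra hne
  obtain ⟨b, hb, hb'⟩ := SetLike.not_le_iff_exists.mp hne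
  have hlt := Ideal.comap_lt_comap_of_integral_mem_sdiff (R := A) hle ⟨hb, hb'⟩ (Algebra.IsIntegral.isIntegral b)
  haveI : (P.comap (algebraMap A D)).IsPrime := Ideal.IsPrime.comap _
  haveI : Q.LiesOver (Q.comap (algebraMap A S)) := ⟨rfl⟩
  have hle' : P.comap (algebraMap A D) ≤ Q.comap (algebraMap A S) := hlt.le
  obtain ⟨Q', hQ'le, hQ'p, hQ'o⟩ := Ideal.exists_ideal_le_liesOver_of_le Q hle'
  have hQeq : Q' = Q := le_antisymm hQ'le (hQ.2 ⟨hQ'p, bot_le⟩ hQ'le)
  rw [hQeq] at hQ'o
  exact hlt.ne hQ'o.over

variable (D : Subalgebra A S) {Ω : Type u} [Field Ω] [Algebra A Ω] (φ : S →ₐ[A] Ω)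
  (hφ : (RingHom.ker φ.toRingHom).comap (algebraMap D S) ∈ minimalPrimes D)

/-- The value of a fraction of `D` at the chosen component. -/
def fracHom : FractionRing D →+* Ω :=
  IsLocalization.lift (M := nonZeroDivisors D) (S := FractionRing D) (g := φ.toRingHom.comp (algebraMap D S))
    fun y => IsUnit.mk0 _ fun h0 => Set.disjoint_left.mp (Ideal.disjoint_nonZeroDivisors_of_mem_minimalPrimes hφ)
      (show (y : D) ∈ (RingHom.ker φ.toRingHom).comap (algebraMap D S) from h0) y.2

omit [HenselianLocalRing A] [HenselianLocalRing S] [IsLocalHom (algebraMap A S)] in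
theorem fracHom_algebraMap (d : D) : fracHom D φ hφ (algebraMap D (FractionRing D) d) = φ d :=
  IsLocalization.lift_eq _ d

/-- The normalisation of `D` at the chosen component. -/
def comp {R : Subalgebra A S} (hR : R ≤ D) :
    letI : Algebra R Ω := (φ.toRingHom.comp (algebraMap R S)).toAlgebra
    Subalgebra R Ω :=
  letI : Algebra R Ω := (φ.toRingHom.comp (algebraMap R S)).toAlgebra
  { ((fracHom D φ hφ).comp (integralClosure D (FractionRing D)).val.toRingHom).range.toSubsemiring with
    algebraMap_mem' := fun r => ⟨algebraMap D _ ⟨r, hR r.2⟩, fracHom_algebraMap D φ hφ ⟨r, hR r.2⟩⟩ }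

/-- The projection to the component. -/
def compHom {R : Subalgebra A S} (hR : R ≤ D) :
    letI : Algebra R Ω := (φ.toRingHom.comp (algebraMap R S)).toAlgebra
    integralClosure D (FractionRing D) →+* comp D φ hφ hR :=
  letI : Algebra R Ω := (φ.toRingHom.comp (algebraMap R S)).toAlgebra
  ((fracHom D φ hφ).comp (integralClosure D (FractionRing D)).val.toRingHom).codRestrict (comp D φ hφ hR)
    fun z => ⟨z, rfl⟩

omit [HenselianLocalRing A] [HenselianLocalRing S] [IsLocalHom (algebraMap A S)] in
theorem compHom_surjective {R : Subalgebra A S} (hR : R ≤ D) :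
    Function.Surjective (compHom D φ hφ hR) := by
  rintro ⟨x, z, rfl⟩
  exact ⟨z, rfl⟩

include hφ in
/-- The components are henselian local rings, integral over the base. -/
theorem Strict.comp_henselian (h : Strict A S) {R : Subalgebra A S} [HenselianLocalRing R] (hR : R ≤ D) :
    letI : Algebra R Ω := (φ.toRingHom.comp (algebraMap R S)).toAlgebra
    Algebra.IsIntegral R (comp D φ hφ hR) ∧ ∃ _ : HenselianLocalRing (comp D φ hφ hR),
      IsLocalHom (algebraMap R (comp D φ hφ hR)) := by
  letI : Algebra R Ω := (φ.toRingHom.comp (algebraMap R S)).toAlgebra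
  haveI : IsScalarTower A R Ω := IsScalarTower.of_algebraMap_eq fun a => (φ.commutes a).symm
  obtain ⟨hint, -⟩ := h.subalgebra_henselian D
  haveI := hint
  let C := comp D φ hφ hR
  haveI hC : Algebra.IsIntegral R C := ⟨fun x => by
    refine (isIntegral_algHom_iff C.val Subtype.val_injective).mp ?_
    obtain ⟨z, hz⟩ := x.2
    show IsIntegral R (x : Ω)
    rw [← hz]
    obtain ⟨p, hp, hp0⟩ := isIntegral_trans (R := A) (A := D) (z : FractionRing D) z.2
    refine IsIntegral.tower_top (R := A) ⟨p, hp, ?_⟩
    have h1 := congrArg (fracHom D φ hφ) hp0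
    rw [map_zero, Polynomial.hom_eval₂] at h1
    rw [← h1]
    congr 1
    refine RingHom.ext fun a => ?_
    rw [RingHom.comp_apply, IsScalarTower.algebraMap_apply A D (FractionRing D), fracHom_algebraMap]
    exact (φ.commutes a).symm⟩
  haveI : IsLocalRing C := by
    obtain ⟨M, hM⟩ := Ideal.exists_maximal C
    haveI := hM
    haveI : (⊥ : Ideal C).IsPrime := Ideal.isPrime_bot
    exact IsLocalRing.of_unique_max_ideal ⟨M, hM, fun M' hM' =>
      haveI := hM'
      H9Hens.maximal_eq_of_prime_le_of_isIntegral (R := R) (P := (⊥ : Ideal C)) bot_le bot_le⟩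
  haveI : IsLocalHom (algebraMap R C) := isLocalHom_algebraMap
  exact ⟨hC, (H9Hens.henselian_of_isIntegral (R := R) (T := C)).1, inferInstance⟩

omit [HenselianLocalRing A] [HenselianLocalRing S] [IsLocalHom (algebraMap A S)] in
include hφ in
/-- A fraction of `D` which is integral at the component comes from the normalisation. -/
theorem exists_integral_lift [IsReduced D] [Algebra.IsIntegral A D] (hfin : (minimalPrimes D).Finite) {x : Ω}
    (hx : IsIntegral A x) {a b : D} (hb : φ b ≠ 0) (hab : x * φ b = φ a) :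
    ∃ z : integralClosure D (FractionRing D), fracHom D φ hφ z = x := by
  let q := (RingHom.ker φ.toRingHom).comap (algebraMap D S)
  obtain ⟨d, c, hdq, hcq, hdc⟩ := exists_separator hfin hφ
  have hs : b * d + c ∈ nonZeroDivisors D := mem_nonZeroDivisors_of_notMem fun q' hq' hmem => by
    by_cases hne : q' = q
    · subst hne
      have : b * d ∈ q := by simpa using sub_mem hmem hcq
      exact (hφ.isPrime.mem_or_mem this).elim hb hdq
    · exact (hdc q' hq' hne).2 (by
        simpa using sub_mem hmem (Ideal.mul_mem_left _ b (hdc q' hq' hne).1))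
  let z : FractionRing D := IsLocalization.mk' (FractionRing D) (a * d) (⟨b * d + c, hs⟩ : nonZeroDivisors D)
  have hzs : z * algebraMap D _ (b * d + c) = algebraMap D _ (a * d) :=
    IsLocalization.mk'_spec (FractionRing D) (a * d) (⟨b * d + c, hs⟩ : nonZeroDivisors D)
  have hgz : fracHom D φ hφ z = x := by
    have h1 := congrArg (fracHom D φ hφ) hzs
    have hd : φ d ≠ 0 := hdq
    have hc0 : φ c = 0 := hcq
    rw [map_mul, fracHom_algebraMap, fracHom_algebraMap] at h1
    simp only [Subalgebra.coe_add, Subalgebra.coe_mul, map_add, map_mul, hc0, add_zero] at h1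
    refine mul_right_cancel₀ (mul_ne_zero hb hd) (h1.trans ?_)
    rw [← hab, mul_assoc]
  obtain ⟨p, hp, hpx⟩ := hx
  refine ⟨⟨z, IsIntegral.tower_top (R := A) ⟨Polynomial.X * p, monic_X.mul hp, ?_⟩⟩, hgz⟩
  -- the equation `z * p z = 0` holds at every minimal prime
  obtain ⟨⟨n, t⟩, hnt⟩ := IsLocalization.surj (nonZeroDivisors D) (eval₂ (algebraMap A (FractionRing D)) z (X * p))
  suffices hn : n = 0 by
    rw [hn, map_zero] at hnt
    exact (IsLocalization.map_units (FractionRing D) t).mul_left_eq_zero.mp hnt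
  have hn' : n ∈ (⊥ : Ideal D).radical := by
    rw [← Ideal.sInf_minimalPrimes, Submodule.mem_sInf]
    intro q' hq'
    haveI := hq'.isPrime
    by_cases hne : q' = q
    · subst hne
      have h1 := congrArg (fracHom D φ hφ) hnt
      rw [map_mul, fracHom_algebraMap, fracHom_algebraMap, Polynomial.hom_eval₂, hgz, eval₂_mul, eval₂_X] at h1
      have h2 : (fracHom D φ hφ).comp (algebraMap A (FractionRing D)) = algebraMap A Ω := by
        refine RingHom.ext fun a => ?_
        rw [RingHom.comp_apply, IsScalarTower.algebraMap_apply A D (FractionRing D), fracHom_algebraMap]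
        exact φ.commutes a
      rw [h2, hpx, mul_zero, zero_mul] at h1
      exact h1.symm
    · let K := FractionRing (D ⧸ q')
      let g : D →+* K := (algebraMap (D ⧸ q') K).comp (Ideal.Quotient.mk q')
      have hg0 : ∀ y : D, g y = 0 ↔ y ∈ q' := fun y => by
        rw [RingHom.comp_apply, map_eq_zero_iff _ (IsFractionRing.injective _ _), Ideal.Quotient.eq_zero_iff_mem]
      let G : FractionRing D →+* K := IsLocalization.lift (M := nonZeroDivisors D) (g := g) fun y =>
        IsUnit.mk0 _ fun h0 => Set.disjoint_left.mp (Ideal.disjoint_nonZeroDivisors_of_mem_minimalPrimes hq')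
          ((hg0 y).mp h0) y.2
      have hG : ∀ y, G (algebraMap D _ y) = g y := fun y => IsLocalization.lift_eq _ y
      have hGz : G z = 0 := by
        have h1 := congrArg G hzs
        rw [map_mul, hG, hG, (hg0 _).mpr (Ideal.mul_mem_left _ a (hdc q' hq' hne).1)] at h1
        refine (mul_eq_zero.mp h1).resolve_right fun h0 => (hdc q' hq' hne).2 ?_
        simpa using sub_mem ((hg0 _).mp h0) (Ideal.mul_mem_left _ b (hdc q' hq' hne).1)
      have h1 := congrArg G hnt
      rw [map_mul, hG, hG, Polynomial.hom_eval₂, hGz, eval₂_mul, eval₂_X, zero_mul, zero_mul] at h1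
      exact (hg0 n).mp h1.symm
  obtain ⟨k, hk⟩ := hn'
  exact eq_zero_of_pow_eq_zero (by simpa using hk)

end Groth.Agent.H9SInter
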