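import Groth.Agent.H9SInter.Intermediate

/-!
# Residue fields of the normalisation of an intermediate ring
-/

set_option autoImplicit false
set_option linter.style.haveILetI false

universe u

open IsLocalRing Polynomial

noncomputable section

namespace Groth.Agent.H9SInter

/-- Separability and degrees over a subfield, read through an isomorphism. -/
theorem compare_subfield {l κ k : Type u} [Field l] [Field κ] [Field k] [Algebra k κ] (j : l →+* κ)
    (K₀ : Subfield l) (h1 : ∀ x ∈ K₀, j x ∈ Set.range (algebraMap k κ))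
    (h2 : ∀ c : k, ∃ x ∈ K₀, j x = algebraMap k κ c) (θ : l) :
    (IsSeparable K₀ θ ↔ IsSeparable k (j θ)) ∧
      (minpoly K₀ θ).natDegree = (minpoly k (j θ)).natDegree ∧
      (θ ∈ K₀ ↔ j θ ∈ Set.range (algebraMap k κ)) := by
  choose i hi hij using h2
  let e : k →+* K₀ :=
    { toFun := fun c => ⟨i c, hi c⟩
      map_one' := Subtype.ext (j.injective (by rw [hij]; simp))
      map_mul' := fun a b => Subtype.ext (j.injective (by
        show j (i (a * b)) = j (i a * i b)
        rw [map_mul j, hij, hij, hij, map_mul]))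
      map_zero' := Subtype.ext (j.injective (by rw [hij]; simp))
      map_add' := fun a b => Subtype.ext (j.injective (by
        show j (i (a + b)) = j (i a + i b)
        rw [map_add j, hij, hij, hij, map_add])) }
  have hbij : Function.Bijective e := ⟨e.injective, fun x => by
    obtain ⟨c, hc⟩ := h1 x x.2
    exact ⟨c, Subtype.ext (j.injective (by rw [← hc]; exact hij c))⟩⟩
  let E := RingEquiv.ofBijective e hbij
  letI : Algebra k l := (K₀.subtype.comp e).toAlgebra
  let J : l →ₐ[k] κ := { j with commutes' := fun c => hij c }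
  letI : Algebra k K₀ := e.toAlgebra
  haveI : IsScalarTower k K₀ l := IsScalarTower.of_algebraMap_eq fun _ => rfl
  have hJ : minpoly k (j θ) = minpoly k θ := minpoly.algHom_eq J J.toRingHom.injective θ
  have hmap : (minpoly k θ).map e = minpoly K₀ θ := by
    by_cases hint : IsIntegral k θ
    · refine minpoly.eq_of_irreducible_of_monic ?_ ?_ ((minpoly.monic hint).map _)
      · exact (MulEquiv.irreducible_iff (Polynomial.mapEquiv E)).mpr (minpoly.irreducible hint)
      · rw [← RingHom.algebraMap_toAlgebra e, aeval_map_algebraMap, minpoly.aeval]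
    · rw [minpoly.eq_zero hint, Polynomial.map_zero, minpoly.eq_zero]
      intro h
      haveI : Algebra.IsIntegral k K₀ :=
        Algebra.IsIntegral.of_surjective (A := k) (Algebra.ofId k K₀) hbij.2
      exact hint (isIntegral_trans (R := k) θ h)
  refine ⟨?_, ?_, ?_⟩
  · rw [IsSeparable, IsSeparable, hJ, ← hmap, Polynomial.separable_map]
  · rw [hJ, ← hmap, natDegree_map]
  · exact ⟨h1 θ, fun ⟨c, hc⟩ => (j.injective ((hij c).trans hc)).symm ▸ hi c |> fun h => h⟩

variable {A S : Type u} [CommRing A] [HenselianLocalRing A] [CommRing S] [HenselianLocalRing S]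
  [Algebra A S] [IsLocalHom (algebraMap A S)] (D : Subalgebra A S)

/-- The projection to the fraction field of a component. -/
def proj (Q : Ideal S) [Q.IsPrime] : S →ₐ[A] FractionRing (S ⧸ Q) :=
  (IsScalarTower.toAlgHom A (S ⧸ Q) (FractionRing (S ⧸ Q))).comp (Ideal.Quotient.mkₐ A Q)

omit [HenselianLocalRing A] [HenselianLocalRing S] [IsLocalHom (algebraMap A S)] in
theorem ker_proj (Q : Ideal S) [Q.IsPrime] : RingHom.ker (proj (A := A) Q).toRingHom = Q := by
  ext x
  rw [RingHom.mem_ker]
  show algebraMap (S ⧸ Q) (FractionRing (S ⧸ Q)) (Ideal.Quotient.mk Q x) = 0 ↔ _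
  rw [map_eq_zero_iff _ (IsFractionRing.injective (S ⧸ Q) _), Ideal.Quotient.eq_zero_iff_mem]

/-- Every maximal ideal of the normalisation belongs to a component. -/
theorem Strict.exists_component (h : Strict A S) [IsReduced D] (hfin : (minimalPrimes D).Finite)
    {R : Subalgebra A S} [HenselianLocalRing R] (hR : R ≤ D)
    (M : Ideal (integralClosure D (FractionRing D))) [M.IsMaximal] :
    ∃ (Q : Ideal S) (_ : Q.IsPrime) (hφ : (RingHom.ker (proj (A := A) Q).toRingHom).comap (algebraMap D S) ∈ minimalPrimes D),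
      Q ∈ minimalPrimes S ∧ ∀ x : integralClosure D (FractionRing D),
        x ∈ M ↔ ¬ IsUnit (compHom D (proj Q) hφ hR x) := by
  classical
  obtain ⟨hint, hH, -, -⟩ := h.subalgebra_henselian D
  haveI := hint; haveI := hH
  let D' := integralClosure D (FractionRing D)
  obtain ⟨q', hq', hq'M⟩ := Ideal.exists_minimalPrimes_le (bot_le : (⊥ : Ideal D') ≤ M)
  obtain ⟨P, hP, hPq⟩ := Ideal.exists_comap_eq_of_mem_minimalPrimes_of_injective
    (f := D'.val.toRingHom) Subtype.val_injective _ hq'
  haveI := hP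
  let q := P.comap (algebraMap D (FractionRing D))
  have hqnzd : ∀ x ∈ q, x ∉ nonZeroDivisors D := fun x hx hnz =>
    hP.ne_top (Ideal.eq_top_of_isUnit_mem _ hx (IsLocalization.map_units (FractionRing D) ⟨x, hnz⟩))
  have hqmin : q ∈ minimalPrimes D := by
    have hsub : (q : Set D) ⊆ ⋃ q₁ ∈ (hfin.toFinset : Set (Ideal D)), (q₁ : Set D) := by
      intro x hx
      by_contra hcon
      exact hqnzd x hx (mem_nonZeroDivisors_of_notMem fun q₁ hq₁ hmem =>
        hcon (Set.mem_biUnion (Finset.mem_coe.mpr ((Set.Finite.mem_toFinset hfin).mpr hq₁)) hmem))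
    obtain ⟨q₁, hq₁, hle⟩ := (Ideal.subset_union_prime q q fun i hi _ _ =>
      ((Set.Finite.mem_toFinset hfin).mp hi).isPrime).mp hsub
    rw [Set.Finite.mem_toFinset] at hq₁
    rwa [le_antisymm hle (hq₁.2 ⟨inferInstance, bot_le⟩ hle)]
  obtain ⟨Q₀, hQ₀, hQ₀q⟩ := Ideal.exists_comap_eq_of_mem_minimalPrimes_of_injective
    (f := D.val.toRingHom) Subtype.val_injective q hqmin
  haveI := hQ₀
  obtain ⟨Q, hQ, hQle⟩ := Ideal.exists_minimalPrimes_le (bot_le : (⊥ : Ideal S) ≤ Q₀)
  haveI := hQ.isPrime
  have hQq : Q.comap (algebraMap D S) = q := le_antisymm (hQ₀q ▸ Ideal.comap_mono hQle)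
    (hqmin.2 ⟨inferInstance, bot_le⟩ (hQ₀q ▸ Ideal.comap_mono hQle))
  have hφ : (RingHom.ker (proj (A := A) Q).toRingHom).comap (algebraMap D S) ∈ minimalPrimes D := by
    rw [ker_proj, hQq]; exact hqmin
  refine ⟨Q, inferInstance, hφ, hQ, fun x => ?_⟩
  letI : Algebra R (FractionRing (S ⧸ Q)) := ((proj (A := A) Q).toRingHom.comp (algebraMap R S)).toAlgebra
  obtain ⟨-, hCH, -⟩ := h.comp_henselian D (proj (A := A) Q) hφ hR
  haveI := hCH
  let C := comp D (proj (A := A) Q) hφ hR
  let π : D' →+* C := compHom D (proj (A := A) Q) hφ hR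
  let M' := Ideal.comap π (maximalIdeal C)
  haveI : M'.IsMaximal := Ideal.comap_isMaximal_of_surjective π (compHom_surjective D (proj (A := A) Q) hφ hR)
  haveI : (RingHom.ker π).IsPrime := RingHom.ker_isPrime π
  have hk : RingHom.ker π ≤ M := by
    intro z hz
    refine hq'M ?_
    rw [← hPq, Ideal.mem_comap]
    obtain ⟨⟨n, t⟩, hnt⟩ := IsLocalization.surj (nonZeroDivisors D) (z : FractionRing D)
    have hz0 : fracHom D (proj (A := A) Q) hφ (z : FractionRing D) = 0 := congrArg Subtype.val hz
    have h1 := congrArg (fracHom D (proj (A := A) Q) hφ) hnt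
    rw [map_mul, hz0, zero_mul, fracHom_algebraMap] at h1
    have hn : n ∈ q := by
      rw [← hQq, Ideal.mem_comap, ← ker_proj (A := A) Q]
      exact h1.symm
    have h2 : (z : FractionRing D) * algebraMap D _ (t : D) ∈ P := hnt ▸ hn
    exact (hP.mem_or_mem h2).resolve_right fun ht => hqnzd (t : D) ht t.2
  rw [← H9Hens.maximal_eq_of_prime_le_of_isIntegral (R := D) (P := RingHom.ker π) (M₁ := M') (M₂ := M)
    (fun z hz => by rw [Ideal.mem_comap, hz]; exact zero_mem _) hk]
  exact mem_maximalIdeal _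

/-- Residue fields of the normalisation and of the component. -/
theorem Strict.residue_compare (h : Strict A S) {Ω : Type u} [Field Ω] [Algebra A Ω] (φ : S →ₐ[A] Ω)
    (hφ : (RingHom.ker φ.toRingHom).comap (algebraMap D S) ∈ minimalPrimes D) {R : Subalgebra A S}
    [HenselianLocalRing R] (hR : R ≤ D) (hres : ∀ x ∈ D, ∃ r ∈ R, residue S r = residue S x)
    (M : Ideal (integralClosure D (FractionRing D))) [M.IsPrime]
    (hM : ∀ x, x ∈ M ↔ ¬ IsUnit (compHom D φ hφ hR x)) :
    letI : Algebra R Ω := (φ.toRingHom.comp (algebraMap R S)).toAlgebra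
    ∀ [IsLocalRing (comp D φ hφ hR)] [IsLocalHom (algebraMap R (comp D φ hφ hR))],
      ∃ j : M.ResidueField →+* ResidueField (comp D φ hφ hR), Function.Bijective j ∧ ∀ θ,
        let K₀ := Subfield.closure (Set.range ((algebraMap (integralClosure D (FractionRing D)) M.ResidueField).comp
          (algebraMap D (integralClosure D (FractionRing D)))))
        (IsSeparable K₀ θ ↔ IsSeparable (ResidueField R) (j θ)) ∧
          (minpoly K₀ θ).natDegree = (minpoly (ResidueField R) (j θ)).natDegree ∧
          (θ ∈ K₀ ↔ j θ ∈ Set.range (algebraMap (ResidueField R) (ResidueField (comp D φ hφ hR)))) := by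
  letI : Algebra R Ω := (φ.toRingHom.comp (algebraMap R S)).toAlgebra
  intro _ _
  let C := comp D φ hφ hR
  let π := compHom D φ hφ hR
  let D' := integralClosure D (FractionRing D)
  let f : D' →+* ResidueField C := (residue C).comp π
  have hf : ∀ x, f x = 0 ↔ x ∈ M := fun x => by
    rw [hM]
    exact (residue_eq_zero_iff _).trans (mem_maximalIdeal _)
  let j : M.ResidueField →+* ResidueField C := Ideal.ResidueField.lift M f (fun x hx => (hf x).mpr hx)
    (fun x hx => IsUnit.mk0 _ fun h0 => hx ((hf x).mp h0))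
  have hj : ∀ x, j (algebraMap D' M.ResidueField x) = f x := Ideal.ResidueField.lift_algebraMap _ _ _ _
  refine ⟨j, ⟨j.injective, fun y => ?_⟩, fun θ => ?_⟩
  · obtain ⟨y, rfl⟩ := residue_surjective y
    obtain ⟨x, rfl⟩ := compHom_surjective D φ hφ hR y
    exact ⟨_, hj x⟩
  obtain ⟨hint, hH, hAD, hDS⟩ := h.subalgebra_henselian D
  haveI := hint; haveI := hH; haveI := hDS
  have hd : ∀ d : D, ∀ r ∈ R, residue S r = residue S d → ∀ hr : r ∈ D,
      f (algebraMap D D' d) = f (algebraMap D D' ⟨r, hr⟩) := by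
    intro d r hrR hres hr
    rw [← sub_eq_zero, ← map_sub, ← map_sub, hf]
    have hnon : d - ⟨r, hr⟩ ∈ maximalIdeal D := by
      rw [mem_maximalIdeal]
      intro hu
      exact (mem_maximalIdeal _).mp ((residue_eq_zero_iff _).mp (show residue S ((d : S) - r) = 0 by
        rw [map_sub, hres, sub_self])) (hu.map D.val)
    by_contra hnot
    rw [hM, not_not] at hnot
    -- a nonunit of `D` stays a nonunit in the component
    haveI : Algebra.IsIntegral D D' := inferInstance
    obtain ⟨M₀, hM₀, hle⟩ := Ideal.exists_le_maximal ((maximalIdeal D).map (algebraMap D D')) (by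
      intro htop
      obtain ⟨N, hN⟩ := Ideal.exists_maximal D'
      haveI := hN
      refine hN.ne_top (top_le_iff.mp (htop ▸ Ideal.map_le_iff_le_comap.mpr ?_))
      exact (eq_maximalIdeal (Ideal.isMaximal_comap_of_isIntegral_of_isMaximal (R := D) N)).ge)
    let M' := Ideal.comap π (maximalIdeal C)
    haveI : M'.IsMaximal := Ideal.comap_isMaximal_of_surjective π (compHom_surjective D φ hφ hR)
    have h1 : algebraMap D D' (d - ⟨r, hr⟩) ∈ M' :=
      (eq_maximalIdeal (Ideal.isMaximal_comap_of_isIntegral_of_isMaximal (R := D) M')).ge hnon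
    exact (mem_maximalIdeal _).mp h1 hnot
  refine compare_subfield j _ ?_ ?_ θ
  · intro x hx
    refine (Subfield.closure_le (t := (RingHom.fieldRange (algebraMap (ResidueField R) (ResidueField C))).comap j)).mpr ?_ hx
    rintro _ ⟨d, rfl⟩
    obtain ⟨r, hr, hrd⟩ := hres d d.2
    refine ⟨residue R ⟨r, hr⟩, ?_⟩
    rw [RingHom.comp_apply, hj, hd d r hr hrd (hR hr)]
    exact congrArg (residue C) (Subtype.ext (fracHom_algebraMap D φ hφ ⟨r, hR hr⟩).symm)
  · intro c
    obtain ⟨⟨r, hr⟩, rfl⟩ := residue_surjective c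
    refine ⟨_, Subfield.subset_closure ⟨⟨r, hR hr⟩, rfl⟩, ?_⟩
    rw [RingHom.comp_apply, hj]
    exact congrArg (residue C) (Subtype.ext (fracHom_algebraMap D φ hφ ⟨r, hR hr⟩))

end Groth.Agent.H9SInter
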