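import Groth.Agent.H9Hens.StrictTensor
import Groth.Agent.H9Hens.BranchCore
import Mathlib.RingTheory.Unramified.LocalRing
import Mathlib.RingTheory.Adjoin.FG
import Mathlib.RingTheory.AdjoinRoot
import Mathlib.FieldTheory.PrimitiveElement

/-!
# Simple elements: finite local unramified algebras over henselian rings
-/

set_option autoImplicit false
set_option linter.style.haveILetI false

universe u

open IsLocalRing Polynomial

noncomputable section

namespace Groth.Agent.H9SInter

variable (R : Type u) [CommRing R] {S : Type u} [CommRing S] [Algebra R S]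

/-- A simple root of a monic polynomial. -/
def Simple (w : S) : Prop := ∃ f : R[X], f.Monic ∧ aeval w f = 0 ∧ IsUnit (aeval w (derivative f))

variable {R}

theorem Simple.isIntegral {w : S} (h : Simple R w) : IsIntegral R w :=
  let ⟨f, hf, h0, _⟩ := h; ⟨f, hf, h0⟩

theorem simple_algebraMap [Nontrivial R] (a : R) : Simple R (algebraMap R S a) :=
  ⟨X - C a, monic_X_sub_C a, by simp, by simp⟩

theorem Simple.tower {R' : Type u} [CommRing R'] [Algebra R R'] [Algebra R' S] [IsScalarTower R R' S] {w : S}
    (h : Simple R w) : Simple R' w := by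
  obtain ⟨f, hf, h0, hu⟩ := h
  exact ⟨f.map (algebraMap R R'), hf.map _, by rwa [aeval_map_algebraMap],
    by rwa [derivative_map, aeval_map_algebraMap]⟩

/-- A finite algebra over a henselian ring without idempotents is local. -/
theorem isLocalRing_of_finite {T : Type u} [HenselianLocalRing R] [CommRing T] [Algebra R T] [Module.Finite R T]
    [Nontrivial T] (h : ∀ e : T, IsIdempotentElem e → e = 0 ∨ e = 1) : IsLocalRing T := by
  obtain ⟨M, hM⟩ := Ideal.exists_maximal T
  refine IsLocalRing.of_unique_max_ideal ⟨M, hM, fun M' hM' => ?_⟩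
  by_contra hne
  have : HenselianRing R (maximalIdeal R) := inferInstance
  obtain ⟨e, he, he1, he2⟩ := H9Hens.exists_idem_isolating (R := R)
    (fun b hb => H9Hens.exists_idem_lift (I := maximalIdeal R) b hb) (⟨M, hM⟩ : MaximalSpectrum T)
  rcases h e he with rfl | rfl
  · exact he1 (zero_mem _)
  · exact hM'.ne_top ((Ideal.eq_top_iff_one _).mpr (he2 ⟨M', hM'⟩ fun h => hne (congrArg MaximalSpectrum.asIdeal h)))

/-- A homomorphism from an integral algebra with local source is local. -/
theorem isLocalHom_of_isIntegral {T T' : Type u} [IsLocalRing R] [CommRing T] [IsLocalRing T] [Algebra R T]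
    [Algebra.IsIntegral R T] [CommRing T'] [IsLocalRing T'] [Algebra R T'] [IsLocalHom (algebraMap R T')]
    (φ : T →ₐ[R] T') : IsLocalHom φ.toRingHom := by
  refine ((local_hom_TFAE φ.toRingHom).out 0 4).mpr ?_
  haveI : (Ideal.comap φ.toRingHom (maximalIdeal T')).IsPrime := Ideal.IsPrime.comap _
  haveI : ((Ideal.comap φ.toRingHom (maximalIdeal T')).comap (algebraMap R T)).IsMaximal := by
    have h : (maximalIdeal T').comap (algebraMap R T') = maximalIdeal R :=
      ((local_hom_TFAE (algebraMap R T')).out 0 4).mp ‹_›
    rw [Ideal.comap_comap, AlgHom.toRingHom_eq_coe, AlgHom.comp_algebraMap, h]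
    infer_instance
  exact eq_maximalIdeal (Ideal.isMaximal_of_isIntegral_of_isMaximal_comap (R := R) _ inferInstance)

theorem isLocalHom_algebraMap {T : Type u} [IsLocalRing R] [CommRing T] [IsLocalRing T] [Algebra R T]
    [Algebra.IsIntegral R T] : IsLocalHom (algebraMap R T) := by
  refine ((local_hom_TFAE (algebraMap R T)).out 0 4).mpr ?_
  exact eq_maximalIdeal (Ideal.isMaximal_comap_of_isIntegral_of_isMaximal _)

/-- A stage: a residually irreducible separable equation. -/
structure Stage [IsLocalRing R] (w : S) (g : R[X]) : Prop where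
  monic : g.Monic
  irreducible : Irreducible (g.map (residue R))
  separable : (g.map (residue R)).Separable
  root : aeval w g = 0

variable [HenselianLocalRing R] [IsLocalRing S] [IsLocalHom (algebraMap R S)]

/-- The algebra generated by finitely many simple elements. -/
theorem adjoin_facts {W : Set S} (hfin : W.Finite) (hW : ∀ w ∈ W, Simple R w) :
    Module.Finite R (Algebra.adjoin R W) ∧ ∃ _ : IsLocalRing (Algebra.adjoin R W),
      IsLocalHom ((Algebra.adjoin R W).val.toRingHom) ∧ Algebra.FormallyUnramified R (Algebra.adjoin R W) := by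
  let T := Algebra.adjoin R W
  haveI hTf : Module.Finite R T :=
    Module.Finite.iff_fg.mpr (fg_adjoin_of_finite hfin fun w hw => (hW w hw).isIntegral)
  haveI : Nontrivial T := T.val.toRingHom.domain_nontrivial
  haveI hTl : IsLocalRing T := isLocalRing_of_finite (R := R) fun e he => by
    rcases IsLocalRing.isUnit_or_isUnit_one_sub_self (e : S) with h | h
    · refine Or.inr (Subtype.ext ?_)
      exact h.mul_left_cancel (((congrArg Subtype.val he.eq : ((e * e : T) : S) = e)).trans (mul_one _).symm)
    · refine Or.inl (Subtype.ext ?_)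
      refine h.mul_left_cancel ?_
      rw [sub_mul, one_mul, show (e : S) * e = e from congrArg Subtype.val he.eq, sub_self, ZeroMemClass.coe_zero,
        mul_zero]
  haveI hloc : IsLocalHom T.val.toRingHom := isLocalHom_of_isIntegral T.val
  refine ⟨hTf, hTl, hloc, ⟨?_⟩⟩
  have hD : ∀ t : T, KaehlerDifferential.D R T t = 0 := by
    rintro ⟨t, ht⟩
    induction ht using Algebra.adjoin_induction with
    | mem w hw =>
      obtain ⟨f, -, h0, hu⟩ := hW w hw
      let x : T := ⟨w, Algebra.subset_adjoin hw⟩
      have h0' : aeval x f = 0 := Subtype.ext (by rw [Polynomial.aeval_subalgebra_coe]; exact h0)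
      have hu' : IsUnit (aeval x (derivative f)) := isUnit_of_map_unit T.val.toRingHom _ (by
        show IsUnit ((aeval x (derivative f) : T) : S)
        rw [Polynomial.aeval_subalgebra_coe]; exact hu)
      have h1 := congrArg (KaehlerDifferential.D R T) h0'
      rw [map_zero, Derivation.map_aeval] at h1
      exact (hu'.smul_eq_zero).mp h1
    | algebraMap a => exact (KaehlerDifferential.D R T).map_algebraMap a
    | add a b ha hb iha ihb =>
      rw [show (⟨a + b, _⟩ : T) = ⟨a, ha⟩ + ⟨b, hb⟩ from rfl, map_add, iha, ihb, add_zero]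
    | mul a b ha hb iha ihb =>
      rw [show (⟨a * b, _⟩ : T) = ⟨a, ha⟩ * ⟨b, hb⟩ from rfl, Derivation.leibniz, iha, ihb, smul_zero, smul_zero,
        add_zero]
  refine subsingleton_of_forall_eq 0 fun z => ?_
  have hz : z ∈ Submodule.span T (Set.range (KaehlerDifferential.D R T)) := by
    rw [KaehlerDifferential.span_range_derivation]; trivial
  induction hz using Submodule.span_induction with
  | mem _ h => obtain ⟨t, rfl⟩ := h; exact hD t
  | zero => rfl
  | add _ _ _ _ ha hb => rw [ha, hb, add_zero]
  | smul c _ _ ha => rw [ha, smul_zero]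

omit [HenselianLocalRing R] in
/-- A finite unramified local algebra is generated by a lift of a residual generator. -/
theorem exists_relation {T : Type u} [IsLocalRing R] [CommRing T] [IsLocalRing T] [Algebra R T] [Module.Finite R T]
    [IsLocalHom (algebraMap R T)] [Algebra.FormallyUnramified R T] (w : T)
    (hw : Algebra.adjoin (ResidueField R) {residue T w} = ⊤) :
    ∃ g : R[X], g.Monic ∧ g.map (residue R) = minpoly (ResidueField R) (residue T w) ∧ aeval w g = 0 ∧
      Algebra.adjoin R {w} = ⊤ := by
  classical
  let θ := residue T w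
  let g0 := minpoly (ResidueField R) θ
  have hint : IsIntegral (ResidueField R) θ := .of_finite _ _
  have hlift : ∀ q : (ResidueField R)[X], ∃ p : R[X], p.map (residue R) = q ∧ p.degree = q.degree := fun q =>
    Polynomial.mem_lifts_and_degree_eq
      ((Polynomial.lifts_iff_coeff_lifts q).mpr fun i => residue_surjective (q.coeff i))
  have haeval : ∀ p : R[X], residue T (aeval w p) = aeval θ (p.map (residue R)) := by
    intro p
    rw [← ResidueField.algebraMap_eq, ← ResidueField.algebraMap_eq, aeval_map_algebraMap,
      ← aeval_algebraMap_apply]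
    rfl
  let d := g0.natDegree
  let N : Submodule R T := (Polynomial.degreeLT R d).map (aeval w : R[X] →ₐ[R] T).toLinearMap
  have htop : N = ⊤ := by
    refine top_le_iff.mp (Submodule.le_of_le_smul_of_le_jacobson_bot Module.Finite.fg_top
      (maximalIdeal_le_jacobson ⊥) fun t _ => ?_)
    have hmem : residue T t ∈ Algebra.adjoin (ResidueField R) {θ} := hw ▸ trivial
    rw [Algebra.adjoin_singleton_eq_range_aeval] at hmem
    obtain ⟨q, hq : aeval θ q = residue T t⟩ := hmem
    obtain ⟨p, hp, hpd⟩ := hlift (q %ₘ g0)
    have hpN : aeval w p ∈ N := ⟨p, by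
      rw [SetLike.mem_coe, Polynomial.mem_degreeLT, hpd]
      exact (degree_modByMonic_lt q (minpoly.monic hint)).trans_le
        (degree_eq_natDegree (minpoly.monic hint).ne_zero).le, rfl⟩
    have hker : t - aeval w p ∈ maximalIdeal T := by
      rw [← residue_eq_zero_iff, map_sub, haeval, hp]
      show residue T t - aeval θ (q %ₘ minpoly (ResidueField R) θ) = 0
      rw [Polynomial.aeval_modByMonic_eq_self_of_root (minpoly.aeval (ResidueField R) θ), hq, sub_self]
    rw [← Algebra.FormallyUnramified.map_maximalIdeal (R := R)] at hker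
    have : t - aeval w p ∈ maximalIdeal R • (⊤ : Submodule R T) := by
      rw [Ideal.smul_top_eq_map]; exact hker
    simpa using add_mem (Submodule.mem_sup_left hpN : _ ∈ N ⊔ maximalIdeal R • (⊤ : Submodule R T))
      (Submodule.mem_sup_right this)
  obtain ⟨p, hp, hpw⟩ := (htop ▸ trivial : w ^ d ∈ N)
  rw [SetLike.mem_coe, Polynomial.mem_degreeLT] at hp
  refine ⟨X ^ d - p, monic_X_pow_sub hp, ?_, ?_, top_le_iff.mp fun t _ => ?_⟩
  · have hm : (X ^ d - p : R[X]).Monic := monic_X_pow_sub hp
    have hdeg : ((X ^ d - p : R[X]).map (residue R)).natDegree = d := by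
      rw [hm.natDegree_map]
      refine natDegree_eq_of_degree_eq_some ?_
      rw [degree_sub_eq_left_of_degree_lt (by rw [degree_X_pow]; exact hp), degree_X_pow]
    refine (Polynomial.eq_of_monic_of_dvd_of_natDegree_le (minpoly.monic hint) (hm.map _)
      (minpoly.dvd _ _ ?_) hdeg.le)
    rw [← haeval, map_sub, aeval_X_pow]
    rw [show (aeval w : R[X] →ₐ[R] T) p = w ^ d from hpw, sub_self, map_zero]
  · rw [map_sub, aeval_X_pow, show (aeval w : R[X] →ₐ[R] T) p = w ^ d from hpw, sub_self]
  · obtain ⟨p, -, rfl⟩ := (htop ▸ trivial : t ∈ N)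
    exact Polynomial.aeval_mem_adjoin_singleton R w (p := p)

/-- Finitely many simple elements are contained in a single stage. -/
theorem exists_stage {W : Set S} (hfin : W.Finite) (hW : ∀ w ∈ W, Simple R w) :
    ∃ (u : S) (g : R[X]), Stage u g ∧ Algebra.adjoin R {u} = Algebra.adjoin R W ∧ Simple R u := by
  obtain ⟨hf, hl, hloc, hunr⟩ := adjoin_facts hfin hW
  haveI := hf; haveI := hl; haveI := hloc; haveI := hunr
  let T := Algebra.adjoin R W
  haveI : IsLocalHom (algebraMap R T) := isLocalHom_algebraMap
  obtain ⟨θ, hθ⟩ := Field.exists_primitive_element (ResidueField R) (ResidueField T)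
  obtain ⟨w, rfl⟩ := residue_surjective θ
  have hw : Algebra.adjoin (ResidueField R) {residue T w} = ⊤ := by
    rw [← IntermediateField.adjoin_simple_toSubalgebra_of_isAlgebraic (Algebra.IsAlgebraic.isAlgebraic _), hθ,
      IntermediateField.top_toSubalgebra]
  obtain ⟨g, hg, hgres, hroot, htop⟩ := exists_relation w hw
  have hirr : Irreducible (g.map (residue R)) := hgres ▸ minpoly.irreducible (.of_finite _ _)
  have hsep : (g.map (residue R)).Separable := hgres ▸ Algebra.IsSeparable.isSeparable _ _
  refine ⟨w, g, ⟨hg, hirr, hsep, ?_⟩, ?_, g, hg, ?_, ?_⟩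
  · rw [← Polynomial.aeval_subalgebra_coe, hroot]; rfl
  · have h1 := congrArg (Subalgebra.map T.val) htop
    rwa [AlgHom.map_adjoin, Set.image_singleton, Algebra.map_top, Subalgebra.range_val] at h1
  · rw [← Polynomial.aeval_subalgebra_coe, hroot]; rfl
  · rw [← Polynomial.aeval_subalgebra_coe]
    refine (IsLocalRing.notMem_maximalIdeal.mp fun hmem => ?_ : IsUnit (aeval w (derivative g))).map T.val
    have h2 : residue T (aeval w (derivative g)) = 0 := (residue_eq_zero_iff _).mpr hmem
    refine hsep.aeval_derivative_ne_zero (x := residue T w) (hgres ▸ minpoly.aeval _ _) ?_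
    rw [derivative_map, ← ResidueField.algebraMap_eq, ← ResidueField.algebraMap_eq, aeval_map_algebraMap,
      aeval_algebraMap_apply]
    exact h2

end Groth.Agent.H9SInter
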