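import Groth.Agent.H9SInter.Simple
import Groth.Agent.S0537
import Groth.Agent.S0539
import Mathlib.FieldTheory.IsSepClosed

/-!
# Strictly henselian integral extensions generated by simple elements
-/

set_option autoImplicit false
set_option linter.style.haveILetI false

universe u

open IsLocalRing Polynomial

noncomputable section

namespace Groth.Agent.H9SInter

/-- `S` behaves as a strict henselization of the henselian ring `R`. -/
structure Strict (R S : Type u) [CommRing R] [HenselianLocalRing R] [CommRing S] [HenselianLocalRing S]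
    [Algebra R S] [IsLocalHom (algebraMap R S)] : Prop where
  sepClosure : IsSepClosure (ResidueField R) (ResidueField S)
  gen : Algebra.adjoin R {w : S | Simple R w} = ⊤
  lift : ∀ (T : Type u) [CommRing T] [HenselianLocalRing T] [Algebra R T] [IsLocalHom (algebraMap R T)]
    (τ : ResidueField S →ₐ[ResidueField R] ResidueField T),
    ∃ g : S →ₐ[R] T, ∀ x, residue T (g x) = τ (residue S x)

theorem exists_finite_of_mem_adjoin {R S : Type u} [CommRing R] [CommRing S] [Algebra R S] {W : Set S} {x : S}
    (hx : x ∈ Algebra.adjoin R W) : ∃ W' ⊆ W, W'.Finite ∧ x ∈ Algebra.adjoin R W' := by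
  induction hx using Algebra.adjoin_induction with
  | mem w hw => exact ⟨{w}, Set.singleton_subset_iff.mpr hw, Set.finite_singleton w, Algebra.subset_adjoin rfl⟩
  | algebraMap a => exact ⟨∅, Set.empty_subset _, Set.finite_empty, Subalgebra.algebraMap_mem _ a⟩
  | add a b _ _ iha ihb =>
    obtain ⟨Wa, ha, hfa, hma⟩ := iha
    obtain ⟨Wb, hb, hfb, hmb⟩ := ihb
    exact ⟨Wa ∪ Wb, Set.union_subset ha hb, hfa.union hfb,
      add_mem (Algebra.adjoin_mono Set.subset_union_left hma) (Algebra.adjoin_mono Set.subset_union_right hmb)⟩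
  | mul a b _ _ iha ihb =>
    obtain ⟨Wa, ha, hfa, hma⟩ := iha
    obtain ⟨Wb, hb, hfb, hmb⟩ := ihb
    exact ⟨Wa ∪ Wb, Set.union_subset ha hb, hfa.union hfb,
      mul_mem (Algebra.adjoin_mono Set.subset_union_left hma) (Algebra.adjoin_mono Set.subset_union_right hmb)⟩

/-- Two roots with the same residue, one of them simple, are equal. -/
theorem root_unique {T : Type u} [CommRing T] [IsLocalRing T] {f : T[X]} {a b : T} (ha : f.eval a = 0)
    (hb : f.eval b = 0) (hu : IsUnit (f.derivative.eval a)) (h : residue T a = residue T b) : a = b := by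
  obtain ⟨k, hk⟩ := Polynomial.binomExpansion f a (b - a)
  rw [add_sub_cancel, ha, hb, zero_add] at hk
  have hmem : b - a ∈ maximalIdeal T := by rw [← residue_eq_zero_iff, map_sub, h, sub_self]
  have h1 : (b - a) * (f.derivative.eval a + k * (b - a)) = 0 := by linear_combination -hk
  have h2 : IsUnit (f.derivative.eval a + k * (b - a)) := IsLocalRing.notMem_maximalIdeal.mp fun hm =>
    IsLocalRing.notMem_maximalIdeal.mpr hu (by simpa using sub_mem hm (Ideal.mul_mem_left _ k hmem))
  exact (sub_eq_zero.mp (h2.mul_left_eq_zero.mp h1)).symm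

/-- The algebra generated by simple elements. -/
theorem adjoin_henselian {R S : Type u} [CommRing R] [HenselianLocalRing R] [CommRing S] [IsLocalRing S]
    [Algebra R S] [IsLocalHom (algebraMap R S)] {W : Set S} (hW : ∀ w ∈ W, Simple R w) :
    Algebra.IsIntegral R (Algebra.adjoin R W) ∧ ∃ _ : HenselianLocalRing (Algebra.adjoin R W),
      IsLocalHom (algebraMap R (Algebra.adjoin R W)) ∧ IsLocalHom (algebraMap (Algebra.adjoin R W) S) := by
  let U := Algebra.adjoin R W
  haveI hint : Algebra.IsIntegral R U := ⟨fun x => by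
    have h1 : (x : S) ∈ integralClosure R S :=
      Algebra.adjoin_le (fun w hw => (hW w hw).isIntegral) x.2
    exact (isIntegral_algHom_iff U.val Subtype.val_injective).mp h1⟩
  have hloc : ∀ x : U, IsUnit (x : S) → IsUnit x := by
    intro x hx
    obtain ⟨W', hW', hfin, hmem⟩ := exists_finite_of_mem_adjoin x.2
    obtain ⟨-, hl, hlh, -⟩ := adjoin_facts hfin fun w hw => hW w (hW' hw)
    haveI := hlh
    exact (isUnit_of_map_unit (Algebra.adjoin R W').val.toRingHom ⟨x, hmem⟩ hx).map
      (Subalgebra.inclusion (Algebra.adjoin_mono hW'))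
  haveI : Nontrivial U := U.val.toRingHom.domain_nontrivial
  haveI : IsLocalRing U := IsLocalRing.of_isUnit_or_isUnit_one_sub_self fun x =>
    (IsLocalRing.isUnit_or_isUnit_one_sub_self (x : S)).imp (hloc x) fun h => hloc (1 - x) h
  haveI : IsLocalHom (algebraMap R U) := isLocalHom_algebraMap
  exact ⟨hint, (H9Hens.henselian_of_isIntegral (R := R) (T := U)).1, inferInstance, ⟨hloc⟩⟩

section

variable {R S : Type u} [CommRing R] [HenselianLocalRing R] [CommRing S] [HenselianLocalRing S]
  [Algebra R S] [IsLocalHom (algebraMap R S)]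

/-- Lifting residual separable elements to simple elements. -/
theorem exists_simple_lift {θ : ResidueField S} (hθ : IsSeparable (ResidueField R) θ) :
    ∃ (w : S) (g : R[X]), residue S w = θ ∧ Simple R w ∧ Stage w g := by
  obtain ⟨g, hg, hgd, hgm⟩ := Polynomial.lifts_and_degree_eq_and_monic
    ((Polynomial.lifts_iff_coeff_lifts _).mpr fun i => residue_surjective ((minpoly (ResidueField R) θ).coeff i))
    (minpoly.monic hθ.isIntegral)
  obtain ⟨a₀, rfl⟩ := residue_surjective θ
  have haeval : ∀ (p : R[X]) (a : S), residue S (aeval a p) = aeval (residue S a) (p.map (residue R)) := fun p a => by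
    rw [← ResidueField.algebraMap_eq, ← ResidueField.algebraMap_eq, aeval_map_algebraMap,
      ← aeval_algebraMap_apply]
  have hroot0 : eval a₀ (g.map (algebraMap R S)) ∈ maximalIdeal S := by
    rw [eval_map_algebraMap, ← residue_eq_zero_iff, haeval, hg, minpoly.aeval]
  have hunit0 : IsUnit (eval a₀ (derivative (g.map (algebraMap R S)))) := by
    refine IsLocalRing.notMem_maximalIdeal.mp fun hm => ?_
    rw [derivative_map, eval_map_algebraMap, ← residue_eq_zero_iff, haeval, ← derivative_map, hg] at hm
    exact hθ.aeval_derivative_ne_zero (minpoly.aeval _ _) hm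
  obtain ⟨w, hw, hwa⟩ := HenselianLocalRing.is_henselian (g.map (algebraMap R S)) (hgm.map _) a₀ hroot0 hunit0
  have hres : residue S w = residue S a₀ := by rwa [← sub_eq_zero, ← map_sub, residue_eq_zero_iff]
  have hw' : aeval w g = 0 := by rw [← eval_map_algebraMap]; exact hw
  refine ⟨w, g, hres, ⟨g, hgm, hw', ?_⟩, hgm, hg ▸ minpoly.irreducible hθ.isIntegral, hg ▸ hθ, hw'⟩
  refine IsLocalRing.notMem_maximalIdeal.mp fun hm => ?_
  rw [← residue_eq_zero_iff, haeval, ← derivative_map, hg, hres] at hm
  exact hθ.aeval_derivative_ne_zero (minpoly.aeval _ _) hm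

end

/-- A strict henselization of a henselian ring is generated by simple elements. -/
theorem Strict.of_isStrictHenselization {A S : Type u} [CommRing A] [HenselianLocalRing A] [CommRing S]
    [HenselianLocalRing S] [Algebra A S] [IsLocalHom (algebraMap A S)] [hS : Hensel.IsStrictHenselization A S] :
    Strict A S := by
  refine ⟨hS.isSepClosure, eq_top_iff.mpr ?_, fun T _ _ _ _ τ => ?_⟩
  · obtain ⟨-, hH, hAU, hUS⟩ := adjoin_henselian (R := A) (W := {w : S | Simple A w}) fun w hw => hw
    let U := Algebra.adjoin A {w : S | Simple A w}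
    haveI := hH; haveI := hAU; haveI := hUS
    let incl : ResidueField U →+* ResidueField S := ResidueField.map (algebraMap U S)
    have hbij : Function.Bijective incl := by
      refine ⟨incl.injective, fun θ => ?_⟩
      obtain ⟨w, g, hw, hs, -⟩ := exists_simple_lift (R := A) (θ := θ) (hS.isSepClosure.separable.isSeparable' θ)
      exact ⟨residue U ⟨w, Algebra.subset_adjoin hs⟩, hw⟩
    let e : ResidueField U ≃+* ResidueField S := RingEquiv.ofBijective incl hbij
    have hes : ∀ (u : U), e.symm (residue S (u : S)) = residue U u := fun u =>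
      e.symm_apply_eq.mpr rfl
    obtain ⟨g, ⟨hg1, hg2⟩, -⟩ := hS.universal U (algebraMap A U) e.symm.toRingHom (RingHom.ext fun a => by
      obtain ⟨a, rfl⟩ := residue_surjective a
      exact hes (algebraMap A U a))
    obtain ⟨g', -, hg'⟩ := hS.universal S (algebraMap A S) (RingHom.id _) rfl
    have h1 := hg' ((algebraMap U S).comp g) ⟨RingHom.ext fun a =>
      (congrArg (algebraMap U S) (RingHom.congr_fun hg1 a)), fun x => by
        show residue S ((g x : U) : S) = residue S x
        have h2 := congrArg e (hg2 x)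
        rw [RingEquiv.toRingHom_eq_coe, RingEquiv.coe_toRingHom, RingEquiv.apply_symm_apply] at h2
        exact h2⟩
    have h2 := hg' (RingHom.id S) ⟨rfl, fun x => rfl⟩
    intro x _
    have h3 := RingHom.congr_fun (h1.trans h2.symm) x
    rw [RingHom.id_apply] at h3
    exact h3 ▸ (g x).2
  · obtain ⟨g, ⟨hg1, hg2⟩, -⟩ := hS.universal T (algebraMap A T) τ.toRingHom (RingHom.ext fun a => τ.commutes a)
    exact ⟨{ g with commutes' := RingHom.congr_fun hg1 }, hg2⟩

/-- Subrings generated by simple elements inherit the structure. -/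
theorem Strict.adjoin {R S : Type u} [CommRing R] [HenselianLocalRing R] [CommRing S] [HenselianLocalRing S]
    [Algebra R S] [IsLocalHom (algebraMap R S)] (h : Strict R S) {W : Set S} (hW : ∀ w ∈ W, Simple R w) :
    ∃ (_ : HenselianLocalRing (Algebra.adjoin R W)) (_ : IsLocalHom (algebraMap (Algebra.adjoin R W) S)),
      Algebra.IsIntegral R (Algebra.adjoin R W) ∧ Strict (Algebra.adjoin R W) S := by
  obtain ⟨hint, hH, hRU, hUS⟩ := adjoin_henselian hW
  haveI := hH; haveI := hRU; haveI := hUS
  refine ⟨hH, hUS, hint, ?_⟩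
  let U := Algebra.adjoin R W
  haveI : IsScalarTower (ResidueField R) (ResidueField U) (ResidueField S) :=
    IsScalarTower.of_algebraMap_eq fun a => by
      obtain ⟨a, rfl⟩ := residue_surjective a
      rfl
  refine ⟨⟨h.sepClosure.sep_closed, ?_⟩, eq_top_iff.mpr ?_, fun T _ _ _ _ τ => ?_⟩
  · haveI := h.sepClosure.separable
    exact Algebra.isSeparable_tower_top_of_isSeparable (ResidueField R) (ResidueField U) (ResidueField S)
  · intro x _
    have hx : x ∈ Algebra.adjoin R {w : S | Simple R w} := by rw [h.gen]; trivial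
    refine (Algebra.adjoin_le (S := (Algebra.adjoin U {w : S | Simple U w}).restrictScalars R) ?_) hx
    exact fun w (hw : Simple R w) => Algebra.subset_adjoin (show Simple U w from hw.tower)
  · letI : Algebra R T := ((algebraMap U T).comp (algebraMap R U)).toAlgebra
    haveI : IsScalarTower R U T := IsScalarTower.of_algebraMap_eq fun _ => rfl
    haveI : IsLocalHom (algebraMap R T) := RingHom.isLocalHom_comp (algebraMap U T) (algebraMap R U)
    haveI : IsScalarTower (ResidueField R) (ResidueField U) (ResidueField T) :=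
      IsScalarTower.of_algebraMap_eq fun a => by
        obtain ⟨a, rfl⟩ := residue_surjective a
        rfl
    obtain ⟨g, hg⟩ := h.lift T (τ.restrictScalars (ResidueField R))
    refine ⟨{ g.toRingHom with commutes' := ?_ }, hg⟩
    suffices hU : ∀ (x : S) (hx : x ∈ U), g x = algebraMap U T ⟨x, hx⟩ from fun x => hU x x.2
    intro x hx
    induction hx using Algebra.adjoin_induction with
    | mem w hw =>
      obtain ⟨f, -, h0, hu⟩ := hW w hw
      let wU : U := ⟨w, Algebra.subset_adjoin hw⟩
      have h0U : aeval wU f = 0 := Subtype.ext (by rw [Polynomial.aeval_subalgebra_coe]; exact h0)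
      refine root_unique (f := f.map (algebraMap R T)) ?_ ?_ ?_ ?_
      · rw [eval_map_algebraMap, aeval_algHom_apply, h0, map_zero]
      · rw [eval_map_algebraMap, aeval_algebraMap_apply, h0U, map_zero]
      · rw [derivative_map, eval_map_algebraMap, aeval_algHom_apply]; exact hu.map g
      · rw [hg]
        exact τ.commutes (residue U wU)
    | algebraMap a => exact g.commutes a
    | add a b ha hb iha ihb => rw [map_add, iha, ihb, ← map_add]; rfl
    | mul a b ha hb iha ihb => rw [map_mul, iha, ihb, ← map_mul]; rfl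

namespace Stage

variable {R S : Type u} [CommRing R] [IsLocalRing R] [CommRing S] [Algebra R S] {u : S} {g : R[X]}

theorem natDegree_pos (h : Stage u g) : 0 < g.natDegree := by
  have := h.irreducible.natDegree_pos
  rwa [h.monic.natDegree_map] at this

/-- Elements of a stage are polynomials of small degree. -/
theorem exists_repr (h : Stage u g) {x : S} (hx : x ∈ Algebra.adjoin R {u}) :
    ∃ p : R[X], p.natDegree < g.natDegree ∧ aeval u p = x := by
  rw [Algebra.adjoin_singleton_eq_range_aeval] at hx
  obtain ⟨p, rfl⟩ := hx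
  refine ⟨p %ₘ g, ?_, aeval_modByMonic_eq_self_of_root h.root⟩
  exact natDegree_modByMonic_lt p h.monic fun h1 => by simpa [h1] using h.natDegree_pos

end Stage

section

variable {R S : Type u} [CommRing R] [HenselianLocalRing R] [CommRing S] [HenselianLocalRing S]
  [Algebra R S] [IsLocalHom (algebraMap R S)]

theorem Strict.isIntegral (h : Strict R S) : Algebra.IsIntegral R S :=
  ⟨fun x => (Algebra.adjoin_le (S := integralClosure R S) fun _ (hw : Simple R _) => hw.isIntegral)
    (h.gen ▸ trivial : x ∈ _)⟩

theorem Strict.exists_stage (h : Strict R S) {F : Set S} (hF : F.Finite) :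
    ∃ (u : S) (g : R[X]), Stage u g ∧ Simple R u ∧ F ⊆ Algebra.adjoin R {u} := by
  have hmem : ∀ x : F, ∃ W' ⊆ {w : S | Simple R w}, W'.Finite ∧ (x : S) ∈ Algebra.adjoin R W' :=
    fun x => exists_finite_of_mem_adjoin (h.gen ▸ trivial)
  choose W hW hWf hWm using hmem
  haveI := hF.to_subtype
  obtain ⟨u, g, hug, hadj, hu⟩ := H9SInter.exists_stage (R := R) (W := ⋃ x, W x) (Set.finite_iUnion hWf)
    fun w hw => by obtain ⟨x, hx⟩ := Set.mem_iUnion.mp hw; exact hW x hx
  refine ⟨u, g, hug, hu, fun x hx => hadj ▸ ?_⟩
  exact Algebra.adjoin_mono (Set.subset_iUnion W ⟨x, hx⟩) (hWm ⟨x, hx⟩)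

/-- The powers of the generator of a stage are independent. -/
theorem Strict.eq_zero_of_aeval (h : Strict R S) {u : S} {g : R[X]} (hs : Stage u g) {p : R[X]}
    (hp : p.natDegree < g.natDegree) (h0 : aeval u p = 0) : p = 0 := by
  haveI := hs.monic.finite_adjoinRoot
  let B := AdjoinRoot g
  let gb := g.map (residue R)
  haveI : IsLocalRing B := by
    let e := AdjoinRoot.quotAdjoinRootEquivQuotPolynomialQuot (maximalIdeal R) g
    haveI := Fact.mk hs.irreducible
    haveI hfield : (Ideal.span {g.map (Ideal.Quotient.mk (maximalIdeal R))}).IsMaximal :=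
      AdjoinRoot.span_maximal_of_irreducible (f := g.map (residue R))
    haveI hmax : ((maximalIdeal R).map (AdjoinRoot.of g)).IsMaximal :=
      Ideal.Quotient.maximal_of_isField _ (MulEquiv.isField
        (@Ideal.Quotient.field _ _ _ hfield).toIsField e.toMulEquiv)
    refine IsLocalRing.of_unique_max_ideal ⟨_, hmax, fun M hM => ?_⟩
    refine (hmax.eq_of_le hM.ne_top ?_).symm
    rw [Ideal.map_le_iff_le_comap]
    haveI := hM
    exact (eq_maximalIdeal (Ideal.isMaximal_comap_of_isIntegral_of_isMaximal (R := R) M)).ge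
  haveI : IsLocalHom (algebraMap R B) := isLocalHom_algebraMap
  haveI : HenselianLocalRing B := (H9Hens.henselian_of_isIntegral (R := R) (T := B)).1
  obtain ⟨H, _, _, _, _, hH⟩ := Groth.Agent.S0537.result B
  haveI := hH
  haveI := hH.henselian
  haveI := Groth.Agent.S0539.result B H
  letI : Algebra R H := ((algebraMap B H).comp (algebraMap R B)).toAlgebra
  haveI : IsScalarTower R B H := IsScalarTower.of_algebraMap_eq fun _ => rfl
  haveI : IsLocalHom (algebraMap R H) := RingHom.isLocalHom_comp (algebraMap B H) (algebraMap R B)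
  let rt : H := algebraMap B H (AdjoinRoot.root g)
  have hrt : aeval rt g = 0 := by
    rw [aeval_algebraMap_apply, AdjoinRoot.aeval_eq, AdjoinRoot.mk_self, map_zero]
  have hres : ∀ (T : Type u) [CommRing T] [IsLocalRing T] [Algebra R T] [IsLocalHom (algebraMap R T)] (p : R[X])
      (a : T), residue T (aeval a p) = aeval (residue T a) (p.map (residue R)) := fun T _ _ _ _ p a => by
    rw [← ResidueField.algebraMap_eq, ← ResidueField.algebraMap_eq, aeval_map_algebraMap, ← aeval_algebraMap_apply]
  haveI := hH.isSepClosure.sep_closed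
  haveI := h.sepClosure.separable
  have hmin : minpoly (ResidueField R) (residue S u) = g.map (residue R) :=
    (minpoly.eq_of_irreducible_of_monic hs.irreducible (by rw [← hres, hs.root, map_zero]) (hs.monic.map _)).symm
  obtain ⟨τ, hτ⟩ := IntermediateField.exists_algHom_of_splits_of_aeval (F := ResidueField R)
    (E := ResidueField S) (K := ResidueField H) (x := residue S u) (y := residue H rt)
    (fun s => ⟨Algebra.IsIntegral.isIntegral s, IsSepClosed.splits_codomain _ (Algebra.IsSeparable.isSeparable _ s)⟩)
    (by rw [hmin, ← hres, hrt, map_zero])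
  obtain ⟨φ, hφ⟩ := h.lift H τ
  have hφu : φ u = rt := by
    refine (root_unique (f := g.map (algebraMap R H)) ?_ ?_ ?_ ?_).symm
    · rw [eval_map_algebraMap, hrt]
    · rw [eval_map_algebraMap, aeval_algHom_apply, hs.root, map_zero]
    · refine IsLocalRing.notMem_maximalIdeal.mp fun hm => ?_
      rw [derivative_map, eval_map_algebraMap, ← residue_eq_zero_iff, hres, ← derivative_map] at hm
      exact hs.separable.aeval_derivative_ne_zero (by rw [← hres, hrt, map_zero]) hm
    · rw [hφ, hτ]
  have h1 : algebraMap B H (AdjoinRoot.mk g p) = 0 := by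
    rw [← AdjoinRoot.aeval_eq, ← aeval_algebraMap_apply]
    show aeval rt p = 0
    rw [← hφu, aeval_algHom_apply, h0, map_zero]
  have h2 : g ∣ p := AdjoinRoot.mk_eq_zero.mp
    ((FaithfulSMul.algebraMap_injective B H) (h1.trans (map_zero _).symm))
  rw [← (modByMonic_eq_zero_iff_dvd hs.monic).mpr h2]
  exact ((modByMonic_eq_self_iff hs.monic).mpr (degree_lt_degree hp)).symm

end

end Groth.Agent.H9SInter
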